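import Groth.Prelude.Def_Dyn
import Mathlib.RingTheory.HopfAlgebra.Quotient
import Mathlib.RingTheory.Ideal.Quotient.Operations
import Mathlib.RingTheory.TensorProduct.Maps
import Mathlib.Algebra.Group.Subgroup.Map
import Mathlib.Tactic.Group

/-! The orbit of a point under a one-parameter subgroup as a group homomorphism. -/

set_option autoImplicit false
set_option linter.unusedSectionVars false
set_option linter.style.haveILetI false

universe u

open LaurentPolynomial TensorProduct WithConv

namespace Groth.Agent.Dyn50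

variable {k : Type u} [CommRing k]

section Conv

variable {A C : Type u} [CommRing A] [HopfAlgebra k A] [CommRing C] [Algebra k C]

/-- The inverse of a point: precomposition with the antipode. -/
noncomputable instance (priority := 500) pointInv : Inv (WithConv (A →ₐ[k] C)) where
  inv f := toConv (f.ofConv.comp (HopfAlgebra.antipodeAlgHom k A))

/-- Points with values in a commutative algebra form a group. -/
noncomputable instance (priority := 500) pointGroup : Group (WithConv (A →ₐ[k] C)) where
  inv_mul_cancel f := by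
    show toConv (f.ofConv.comp (HopfAlgebra.antipodeAlgHom k A)) * f = 1
    skip
    conv_lhs => arg 2; rw [← WithConv.toConv_ofConv f, ← AlgHom.comp_id f.ofConv]
    refine WithConv.ofConv_injective ?_
    refine (AlgHom.comp_convMul_distrib f.ofConv (toConv (HopfAlgebra.antipodeAlgHom k A))
      (toConv (AlgHom.id k A))).symm.trans ?_
    rw [AlgHom.antipode_id_cancel]
    exact AlgHom.ext fun a => f.ofConv.commutes _

end Conv

section Laurent

variable {R S : Type u} [CommRing R] [Algebra k R] [CommRing S] [Algebra k S]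

/-- Constants. -/
noncomputable def cst : R →ₐ[k] R[T;T⁻¹] := IsScalarTower.toAlgHom k R R[T;T⁻¹]

theorem cst_apply (r : R) : cst (k := k) r = LaurentPolynomial.C r := (C_eq_algebraMap r).symm

/-- Coefficientwise maps. -/
noncomputable def mapL (σ : R →ₐ[k] S) : R[T;T⁻¹] →ₐ[k] S[T;T⁻¹] := AddMonoidAlgebra.mapAlgHom ℤ σ

theorem coeff_mapL (σ : R →ₐ[k] S) (f : R[T;T⁻¹]) (n : ℤ) : (mapL σ f).coeff n = σ (f.coeff n) :=
  AddMonoidAlgebra.coeff_mapAlgHom σ f n

theorem coeff_single (n m : ℤ) (r : R) :
    (AddMonoidAlgebra.single n r : R[T;T⁻¹]).coeff m = if m = n then r else 0 := by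
  classical
  rw [AddMonoidAlgebra.coeff_single, Finsupp.single_apply]
  exact if_congr eq_comm rfl rfl

theorem mapL_single (σ : R →ₐ[k] S) (n : ℤ) (r : R) :
    mapL σ (AddMonoidAlgebra.single n r) = AddMonoidAlgebra.single n (σ r) :=
  LaurentPolynomial.ext fun m => by rw [coeff_mapL, coeff_single, coeff_single, apply_ite σ, map_zero]

theorem mapL_cst (σ : R →ₐ[k] S) (r : R) : mapL σ (cst (k := k) r) = cst (k := k) (σ r) := by
  rw [cst_apply, cst_apply, ← single_eq_C, ← single_eq_C, mapL_single]

theorem mapL_injective {σ : R →ₐ[k] S} (h : Function.Injective σ) : Function.Injective (mapL σ) := fun f g hfg =>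
  LaurentPolynomial.ext fun n => h (by rw [← coeff_mapL, ← coeff_mapL, hfg])

/-- The inclusion of polynomials. -/
noncomputable def toL : Polynomial R →ₐ[k] R[T;T⁻¹] := (Polynomial.toLaurentAlg (R := R)).restrictScalars k

theorem toL_apply (p : Polynomial R) : toL (k := k) p = Polynomial.toLaurent p := rfl

theorem toL_injective : Function.Injective (toL (k := k) (R := R)) := Polynomial.toLaurent_injective

theorem toL_coeff (p : Polynomial R) (n : ℕ) : (toL (k := k) p).coeff (n : ℤ) = p.coeff n := by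
  induction p using Polynomial.induction_on' with
  | add a b ha hb => rw [map_add, AddMonoidAlgebra.coeff_add, Finsupp.add_apply, ha, hb, Polynomial.coeff_add]
  | monomial m r =>
    rw [toL_apply, ← Polynomial.C_mul_X_pow_eq_monomial, Polynomial.toLaurent_C_mul_X_pow, ← single_eq_C_mul_T,
      coeff_single, Polynomial.coeff_C_mul_X_pow]
    exact if_congr Nat.cast_inj rfl rfl

theorem toL_coeff_neg (p : Polynomial R) {n : ℤ} (hn : n < 0) : (toL (k := k) p).coeff n = 0 := by
  induction p using Polynomial.induction_on' with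
  | add a b ha hb => rw [map_add, AddMonoidAlgebra.coeff_add, Finsupp.add_apply, ha, hb, add_zero]
  | monomial m r =>
    rw [toL_apply, ← Polynomial.C_mul_X_pow_eq_monomial, Polynomial.toLaurent_C_mul_X_pow, ← single_eq_C_mul_T,
      coeff_single, if_neg (by omega)]

theorem mem_range_toL {f : R[T;T⁻¹]} (h : ∀ n < 0, f.coeff n = 0) : f ∈ (toL (k := k) (R := R)).range := by
  refine ⟨LaurentPolynomial.trunc f, LaurentPolynomial.ext fun n => ?_⟩
  rcases n with n | n
  · show (toL (k := k) (LaurentPolynomial.trunc f)).coeff (n : ℤ) = _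
    rw [toL_coeff]
    induction f using AddMonoidAlgebra.induction_linear with
    | zero => simp
    | add a b ha hb => simp only [map_add, Polynomial.coeff_add, AddMonoidAlgebra.coeff_add, Finsupp.add_apply] ; rw [show (LaurentPolynomial.trunc a).coeff n = a.coeff (Int.ofNat n) from ?_, show (LaurentPolynomial.trunc b).coeff n = b.coeff (Int.ofNat n) from ?_] <;> rfl
    | single m r => rfl
  · show (toL (k := k) (LaurentPolynomial.trunc f)).coeff (Int.negSucc n) = _
    rw [toL_coeff_neg _ (Int.negSucc_lt_zero n), h _ (Int.negSucc_lt_zero n)]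

/-- Evaluation at one. -/
noncomputable def ev1 : R[T;T⁻¹] →ₐ[k] R where
  __ := LaurentPolynomial.eval₂ (RingHom.id R) (1 : Rˣ)
  commutes' r := by
    show LaurentPolynomial.eval₂ (RingHom.id R) (1 : Rˣ) (algebraMap k R[T;T⁻¹] r) = _
    rw [IsScalarTower.algebraMap_apply k R R[T;T⁻¹], ← C_eq_algebraMap, eval₂_C]
    rfl

theorem ev1_single (n : ℤ) (r : R) : ev1 (k := k) (AddMonoidAlgebra.single n r) = r := by
  show LaurentPolynomial.eval₂ (RingHom.id R) (1 : Rˣ) (AddMonoidAlgebra.single n r) = _
  rw [single_eq_C_mul_T, eval₂_C_mul_T]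
  simp

theorem ev1_cst (r : R) : ev1 (k := k) (cst (k := k) r) = r := by
  rw [cst_apply, ← single_eq_C, ev1_single]

theorem ev1_mapL (σ : R →ₐ[k] S) (f : R[T;T⁻¹]) : ev1 (k := k) (mapL σ f) = σ (ev1 (k := k) f) := by
  induction f using AddMonoidAlgebra.induction_linear with
  | zero => simp
  | add a b ha hb => simp [ha, hb]
  | single n r => rw [mapL_single, ev1_single, ev1_single]

/-- `T ↦ T'T` for the nested Laurent polynomials. -/
noncomputable def dbl : R[T;T⁻¹] →ₐ[k] R[T;T⁻¹][T;T⁻¹] :=
  (AddMonoidAlgebra.lift R (R[T;T⁻¹][T;T⁻¹]) ℤ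
    { toFun := fun n => AddMonoidAlgebra.single n.toAdd (AddMonoidAlgebra.single n.toAdd (1 : R))
      map_one' := rfl
      map_mul' := fun a b => by rw [AddMonoidAlgebra.single_mul_single, AddMonoidAlgebra.single_mul_single, one_mul, toAdd_mul] }).restrictScalars k

theorem dbl_single (n : ℤ) (r : R) :
    dbl (k := k) (AddMonoidAlgebra.single n r) = AddMonoidAlgebra.single n (AddMonoidAlgebra.single n r) := by
  show AddMonoidAlgebra.lift R (R[T;T⁻¹][T;T⁻¹]) ℤ _ (AddMonoidAlgebra.single n r) = _
  rw [AddMonoidAlgebra.lift_single]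
  show r • AddMonoidAlgebra.single n (AddMonoidAlgebra.single n (1 : R)) = _
  rw [AddMonoidAlgebra.smul_single, AddMonoidAlgebra.smul_single, smul_eq_mul, mul_one]

/-- `T ↦ X T`. -/
noncomputable def sub : Polynomial R →ₐ[k] (Polynomial R)[T;T⁻¹] :=
  (Polynomial.aeval (R := R) (LaurentPolynomial.C Polynomial.X * T 1 : (Polynomial R)[T;T⁻¹])).restrictScalars k

theorem sub_monomial (n : ℕ) (r : R) :
    sub (k := k) (Polynomial.monomial n r) = AddMonoidAlgebra.single (n : ℤ) (Polynomial.monomial n r) := by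
  show Polynomial.aeval _ (Polynomial.monomial n r) = _
  rw [Polynomial.aeval_monomial, mul_pow, T_pow, ← map_pow, IsScalarTower.algebraMap_apply R (Polynomial R) (Polynomial R)[T;T⁻¹],
    ← C_eq_algebraMap, ← mul_assoc, ← map_mul, single_eq_C_mul_T, Polynomial.algebraMap_eq,
    Polynomial.C_mul_X_pow_eq_monomial, mul_one]

theorem mapL_toL_sub (p : Polynomial R) :
    mapL (toL (k := k)) (sub (k := k) p) = dbl (k := k) (toL (k := k) p) := by
  induction p using Polynomial.induction_on' with
  | add a b ha hb => simp [ha, hb]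
  | monomial n r =>
    rw [sub_monomial, mapL_single, toL_apply, ← Polynomial.C_mul_X_pow_eq_monomial, Polynomial.toLaurent_C_mul_X_pow,
      ← single_eq_C_mul_T, dbl_single]

/-- Evaluation at zero. -/
noncomputable def ev0 : Polynomial R →ₐ[k] R := (Polynomial.aeval (R := R) (0 : R)).restrictScalars k

theorem ev0_apply (p : Polynomial R) : ev0 (k := k) p = p.coeff 0 := by
  show Polynomial.aeval (0 : R) p = _
  rw [Polynomial.coe_aeval_eq_eval, Polynomial.coeff_zero_eq_eval_zero]

theorem mapL_ev0_sub (p : Polynomial R) : mapL (ev0 (k := k)) (sub (k := k) p) = cst (k := k) (ev0 (k := k) p) := by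
  induction p using Polynomial.induction_on' with
  | add a b ha hb => simp [ha, hb]
  | monomial n r =>
    rw [sub_monomial, mapL_single, cst_apply, ← single_eq_C]
    cases n with
    | zero => rfl
    | succ n => simp [ev0_apply, Polynomial.coeff_monomial]

end Laurent

variable {A : Type u} [CommRing A] [HopfAlgebra k A] (lam : A →ₐc[k] k[T;T⁻¹])

section Points

variable {R S : Type u} [CommRing R] [Algebra k R] [CommRing S] [Algebra k S]

/-- Pushing points forward. -/
noncomputable def push (σ : R →ₐ[k] S) : WithConv (A →ₐ[k] R) →* WithConv (A →ₐ[k] S) where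
  toFun f := toConv (σ.comp f.ofConv)
  map_one' := WithConv.ofConv_injective (AlgHom.ext fun a => σ.commutes _)
  map_mul' f g := WithConv.ofConv_injective (AlgHom.comp_convMul_distrib σ f g)

theorem push_apply (σ : R →ₐ[k] S) (f : WithConv (A →ₐ[k] R)) (a : A) :
    (push σ f).ofConv a = σ (f.ofConv a) := rfl

variable (R) in
/-- The one-parameter subgroup as a point. -/
noncomputable def Lam : WithConv (A →ₐ[k] R[T;T⁻¹]) := toConv (Dyn.lamR k A lam R)

variable (R) in
/-- The orbit. -/
noncomputable def orb : WithConv (A →ₐ[k] R) →* WithConv (A →ₐ[k] R[T;T⁻¹]) :=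
  (MulAut.conj (Lam lam R)).toMonoidHom.comp (push cst)

theorem orb_def (g : WithConv (A →ₐ[k] R)) : orb lam R g = Lam lam R * push cst g * (Lam lam R)⁻¹ := rfl

theorem conv3_eq {C : Type u} [CommRing C] [Algebra k C] (f g h : A →ₐ[k] C) :
    Dyn.conv3 k A f g h = (toConv f * toConv g * toConv h).ofConv := by
  rw [AlgHom.convMul_def, AlgHom.convMul_def]
  simp only [WithConv.ofConv_toConv, Dyn.conv3]
  congr 1
  rw [← AlgHom.comp_assoc, ← Algebra.TensorProduct.map_comp, AlgHom.comp_id, AlgHom.comp_assoc]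

theorem conjOrbit_eq (g : A →ₐ[k] R) : Dyn.conjOrbit k A lam R g = (orb lam R (toConv g)).ofConv := by
  rw [Dyn.conjOrbit, conv3_eq, orb_def]
  rfl

theorem push_Lam (σ : R →ₐ[k] S) : push (mapL σ) (Lam lam R) = Lam lam S :=
  WithConv.ofConv_injective (AlgHom.ext fun a => LaurentPolynomial.ext fun n => by
    show (mapL σ (mapL (Algebra.ofId k R) (lam a))).coeff n = (mapL (Algebra.ofId k S) (lam a)).coeff n
    rw [coeff_mapL, coeff_mapL, coeff_mapL]
    exact σ.commutes _)

theorem push_cst (σ : R →ₐ[k] S) (g : WithConv (A →ₐ[k] R)) : push (mapL σ) (push cst g) = push cst (push σ g) :=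
  WithConv.ofConv_injective (AlgHom.ext fun a => mapL_cst σ _)

/-- Naturality of the orbit. -/
theorem orb_push (σ : R →ₐ[k] S) (g : WithConv (A →ₐ[k] R)) : orb lam S (push σ g) = push (mapL σ) (orb lam R g) := by
  rw [orb_def, orb_def, map_mul, map_mul, map_inv, push_Lam, push_cst]

theorem ev1_Lam : push (ev1 (k := k)) (Lam lam R) = 1 := by
  refine WithConv.ofConv_injective (AlgHom.ext fun a => ?_)
  show ev1 (k := k) (mapL (Algebra.ofId k R) (lam a)) = algebraMap k R (Coalgebra.counit (R := k) a)
  rw [ev1_mapL, ← CoalgHomClass.counit_comp_apply lam a]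
  show algebraMap k R _ = _
  congr 1
  induction lam a using AddMonoidAlgebra.induction_linear with
  | zero => simp
  | add x y hx hy => simp [hx, hy]
  | single n r => rw [ev1_single]; simp

theorem ev1_orb (g : WithConv (A →ₐ[k] R)) : push (ev1 (k := k)) (orb lam R g) = g := by
  rw [orb_def, map_mul, map_mul, map_inv, ev1_Lam, one_mul, inv_one, mul_one]
  exact WithConv.ofConv_injective (AlgHom.ext fun a => ev1_cst (k := k) (g.ofConv a))

theorem conv_apply_groupLike {C : Type u} [CommRing C] [Algebra k C] (f g : k[T;T⁻¹] →ₐ[k] C) (n : ℤ) :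
    (toConv f * toConv g).ofConv (AddMonoidAlgebra.single n 1) =
      f (AddMonoidAlgebra.single n 1) * g (AddMonoidAlgebra.single n 1) := by
  rw [AlgHom.convMul_apply]
  simp

theorem dbl_Lam : push (dbl (k := k)) (Lam lam R) = Lam lam R[T;T⁻¹] * push cst (Lam lam R) := by
  refine WithConv.ofConv_injective ?_
  have h := AlgHom.convMul_comp_bialgHom_distrib (toConv (mapL (Algebra.ofId k R[T;T⁻¹])))
    (toConv ((cst (k := k)).comp (mapL (Algebra.ofId k R)))) lam
  refine Eq.trans ?_ h
  show ((dbl (k := k)).comp (mapL (Algebra.ofId k R))).comp (lam : A →ₐ[k] k[T;T⁻¹]) = _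
  refine congrArg (fun e : k[T;T⁻¹] →ₐ[k] R[T;T⁻¹][T;T⁻¹] => e.comp (lam : A →ₐ[k] k[T;T⁻¹])) ?_
  refine AddMonoidAlgebra.algHom_ext (fun n => ?_) (Subsingleton.elim _ _)
  show dbl (k := k) (mapL (Algebra.ofId k R) (AddMonoidAlgebra.single n (1 : k))) = _
  rw [conv_apply_groupLike]
  show _ = mapL (Algebra.ofId k R[T;T⁻¹]) _ * cst (k := k) (mapL (Algebra.ofId k R) _)
  rw [mapL_single, mapL_single, map_one, map_one, dbl_single, cst_apply, ← single_eq_C,
    AddMonoidAlgebra.single_mul_single, one_mul, add_zero]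

theorem conj_conj {G : Type*} [Group G] (a b x : G) : a * (b * x * b⁻¹) * a⁻¹ = a * b * x * (a * b)⁻¹ := by group

theorem dbl_cst (g : WithConv (A →ₐ[k] R)) : push (dbl (k := k)) (push cst g) = push cst (push cst g) :=
  WithConv.ofConv_injective (AlgHom.ext fun a => by
    show dbl (k := k) (cst (k := k) (g.ofConv a)) = cst (k := k) (cst (k := k) (g.ofConv a))
    rw [cst_apply, ← single_eq_C, dbl_single, cst_apply, ← single_eq_C])

/-- The orbit of the orbit. -/
theorem orb_orb (g : WithConv (A →ₐ[k] R)) : orb lam R[T;T⁻¹] (orb lam R g) = push (dbl (k := k)) (orb lam R g) := by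
  rw [orb_def lam (orb lam R g), orb_def, map_mul, map_mul, map_inv, map_mul, map_mul, map_inv, dbl_Lam, dbl_cst]
  exact conj_conj _ _ _

/-- The orbit of a limit. -/
theorem orb_limit {g : WithConv (A →ₐ[k] R)} {h : WithConv (A →ₐ[k] Polynomial R)}
    (hh : push toL h = orb lam R g) : orb lam (Polynomial R) h = push (sub (k := k)) h := by
  have hinj : ∀ a b : WithConv (A →ₐ[k] (Polynomial R)[T;T⁻¹]),
      push (mapL (toL (k := k))) a = push (mapL (toL (k := k))) b → a = b := fun a b e =>
    WithConv.ofConv_injective (AlgHom.ext fun x => mapL_injective toL_injective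
      (DFunLike.congr_fun (congrArg WithConv.ofConv e) x))
  refine hinj _ _ ?_
  rw [← orb_push, hh, orb_orb, ← hh]
  exact WithConv.ofConv_injective (AlgHom.ext fun a => (mapL_toL_sub _).symm)

/-- The value at zero of a limit commutes with the one-parameter subgroup. -/
theorem orb_ev0 {g : WithConv (A →ₐ[k] R)} {h : WithConv (A →ₐ[k] Polynomial R)}
    (hh : push toL h = orb lam R g) : orb lam R (push ev0 h) = push cst (push ev0 h) := by
  rw [orb_push, orb_limit lam hh]
  exact WithConv.ofConv_injective (AlgHom.ext fun a => mapL_ev0_sub _)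

variable (R) in
/-- Points with a limit. -/
noncomputable def Plim : Subgroup (WithConv (A →ₐ[k] R)) := (push toL).range.comap (orb lam R)

variable (R) in
/-- Points tending to the identity. -/
noncomputable def Ulim : Subgroup (WithConv (A →ₐ[k] R)) :=
  ((push (A := A) (ev0 (k := k) (R := R))).ker.map (push toL)).comap (orb lam R)

theorem limExists_iff (g : A →ₐ[k] R) : Dyn.LimExists k A lam R g ↔ toConv g ∈ Plim lam R := by
  constructor
  · rintro ⟨h, hh⟩
    exact ⟨toConv h, WithConv.ofConv_injective (hh.trans (conjOrbit_eq lam g))⟩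
  · rintro ⟨h, hh⟩
    exact ⟨h.ofConv, (congrArg WithConv.ofConv hh).trans (conjOrbit_eq lam g).symm⟩

theorem limIsOne_iff (g : A →ₐ[k] R) : Dyn.LimIsOne k A lam R g ↔ toConv g ∈ Ulim lam R := by
  constructor
  · rintro ⟨h, hh, h0⟩
    exact ⟨toConv h, WithConv.ofConv_injective h0, WithConv.ofConv_injective (hh.trans (conjOrbit_eq lam g))⟩
  · rintro ⟨h, h0, hh⟩
    exact ⟨h.ofConv, (congrArg WithConv.ofConv hh).trans (conjOrbit_eq lam g).symm, congrArg WithConv.ofConv h0⟩

end Points

section Grading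

/-- The orbit of the universal point. -/
noncomputable def univ : A →ₐ[k] A[T;T⁻¹] := (orb lam A (toConv (AlgHom.id k A))).ofConv

/-- The homogeneous components. -/
noncomputable def comp (n : ℤ) : A →ₗ[k] A where
  toFun a := (univ lam a).coeff n
  map_add' a b := by rw [map_add, AddMonoidAlgebra.coeff_add, Finsupp.add_apply]
  map_smul' r a := by rw [map_smul, AddMonoidAlgebra.coeff_smul, Finsupp.smul_apply, RingHom.id_apply]

theorem comp_apply (n : ℤ) (a : A) : comp lam n a = (univ lam a).coeff n := rfl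

theorem orb_apply {R : Type u} [CommRing R] [Algebra k R] (g : WithConv (A →ₐ[k] R)) (a : A) :
    (orb lam R g).ofConv a = mapL g.ofConv (univ lam a) :=
  DFunLike.congr_fun (congrArg WithConv.ofConv (orb_push lam g.ofConv (toConv (AlgHom.id k A)))) a

theorem orb_coeff {R : Type u} [CommRing R] [Algebra k R] (g : WithConv (A →ₐ[k] R)) (a : A) (n : ℤ) :
    ((orb lam R g).ofConv a).coeff n = g.ofConv (comp lam n a) := by
  rw [orb_apply, coeff_mapL, comp_apply]

theorem mem_Plim_iff {R : Type u} [CommRing R] [Algebra k R] (g : WithConv (A →ₐ[k] R)) :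
    g ∈ Plim lam R ↔ ∀ n < 0, ∀ a, g.ofConv (comp lam n a) = 0 := by
  constructor
  · rintro ⟨h, hh⟩ n hn a
    rw [← orb_coeff, ← hh]
    exact toL_coeff_neg (k := k) (h.ofConv a) hn
  · intro hg
    have hr : ∀ a, (orb lam R g).ofConv a ∈ (toL (k := k) (R := R)).range := fun a =>
      mem_range_toL fun n hn => (orb_coeff lam g a n).trans (hg n hn a)
    refine ⟨toConv ((AlgEquiv.ofInjective (toL (k := k) (R := R)) toL_injective).symm.toAlgHom.comp
      ((orb lam R g).ofConv.codRestrict _ hr)), WithConv.ofConv_injective (AlgHom.ext fun a => ?_)⟩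
    exact congrArg Subtype.val ((AlgEquiv.ofInjective (toL (k := k) (R := R)) toL_injective).apply_symm_apply ⟨_, hr a⟩)

theorem mem_Ulim_iff {R : Type u} [CommRing R] [Algebra k R] (g : WithConv (A →ₐ[k] R)) :
    g ∈ Ulim lam R ↔ (∀ n < 0, ∀ a, g.ofConv (comp lam n a) = 0) ∧
      ∀ a, g.ofConv (comp lam 0 a) = algebraMap k R (Coalgebra.counit (R := k) a) := by
  rw [← mem_Plim_iff]
  constructor
  · rintro ⟨h, h0, hh⟩
    refine ⟨⟨h, hh⟩, fun a => ?_⟩
    rw [← orb_coeff, ← hh, push_apply]
    show (toL (k := k) (h.ofConv a)).coeff ((0 : ℕ) : ℤ) = _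
    rw [toL_coeff, ← ev0_apply (k := k)]
    exact DFunLike.congr_fun (congrArg WithConv.ofConv h0) a
  · rintro ⟨⟨h, hh⟩, h0⟩
    refine ⟨h, WithConv.ofConv_injective (AlgHom.ext fun a => ?_), hh⟩
    rw [push_apply, ev0_apply, ← toL_coeff (k := k), ← push_apply (toL (k := k)), hh, orb_coeff]
    exact h0 a

/-- Components of components. -/
theorem univ_comp (n : ℤ) (a : A) : univ lam (comp lam n a) = AddMonoidAlgebra.single n (comp lam n a) := by
  have h := DFunLike.congr_fun (congrArg WithConv.ofConv (orb_orb lam (toConv (AlgHom.id k A)))) a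
  rw [orb_apply, push_apply] at h
  have h' := congrArg (fun f : A[T;T⁻¹][T;T⁻¹] => f.coeff n) h
  simp only [coeff_mapL] at h'
  refine h'.trans ?_
  rw [comp_apply]
  show (dbl (k := k) (univ lam a)).coeff n = _
  induction univ lam a using AddMonoidAlgebra.induction_linear with
  | zero => simp
  | add x y hx hy =>
    rw [map_add, AddMonoidAlgebra.coeff_add, Finsupp.add_apply, hx, hy, AddMonoidAlgebra.coeff_add,
      Finsupp.add_apply, AddMonoidAlgebra.single_add]
  | single m r =>
    rw [dbl_single, coeff_single, coeff_single]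
    by_cases hnm : n = m
    · subst hnm; rw [if_pos rfl, if_pos rfl]
    · rw [if_neg hnm, if_neg hnm, AddMonoidAlgebra.single_zero]

end Grading

section HopfIdeal

/-- An ideal cutting out subgroups is a Hopf ideal. -/
theorem isHopfIdeal_of_subgroup (J : Ideal A)
    (P : ∀ (R : Type u) [CommRing R] [Algebra k R], Subgroup (WithConv (A →ₐ[k] R)))
    (hP : ∀ (R : Type u) [CommRing R] [Algebra k R] (g : A →ₐ[k] R), (∀ a ∈ J, g a = 0) ↔ toConv g ∈ P R) :
    J.IsHopfIdeal k := by
  let π : A →ₐ[k] A ⧸ J := Ideal.Quotient.mkₐ k J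
  have hπ : toConv π ∈ P (A ⧸ J) := (hP _ π).1 fun a ha => Ideal.Quotient.eq_zero_iff_mem.2 ha
  haveI : (J.restrictScalars k).IsCoideal := by
    constructor
    · intro a ha
      have h1 : toConv ((1 : WithConv (A →ₐ[k] k)).ofConv) ∈ P k := one_mem (P k)
      exact (hP k (1 : WithConv (A →ₐ[k] k)).ofConv).2 h1 a ha
    · intro a ha
      let inl : A →ₐ[k] (A ⧸ J) ⊗[k] (A ⧸ J) := Algebra.TensorProduct.includeLeft.comp π
      let inr : A →ₐ[k] (A ⧸ J) ⊗[k] (A ⧸ J) := Algebra.TensorProduct.includeRight.comp π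
      have hl : toConv inl ∈ P _ := (hP _ inl).1 fun b hb => by
        show (Algebra.TensorProduct.includeLeft : (A ⧸ J) →ₐ[k] (A ⧸ J) ⊗[k] (A ⧸ J)) (π b) = 0
        rw [show π b = 0 from Ideal.Quotient.eq_zero_iff_mem.2 hb, map_zero]
      have hr : toConv inr ∈ P _ := (hP _ inr).1 fun b hb => by
        show (Algebra.TensorProduct.includeRight : (A ⧸ J) →ₐ[k] (A ⧸ J) ⊗[k] (A ⧸ J)) (π b) = 0
        rw [show π b = 0 from Ideal.Quotient.eq_zero_iff_mem.2 hb, map_zero]
      have h := (hP _ (toConv inl * toConv inr).ofConv).2 (mul_mem hl hr) a ha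
      rw [AlgHom.convMul_apply] at h
      let e : (A ⧸ J) →ₗ[k] A ⧸ J.restrictScalars k := (Submodule.Quotient.restrictScalarsEquiv k J).symm.toLinearMap
      refine Eq.trans ?_ ((congrArg (TensorProduct.map e e) h).trans (map_zero _))
      clear h
      generalize Coalgebra.comul (R := k) a = t
      induction t using TensorProduct.induction_on with
      | zero => simp
      | add x y hx hy => simp only [map_add, hx, hy]
      | tmul x y => simp [inl, inr, π, e]; rfl
  refine { antipode_mem := fun a ha => ?_ }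
  have h := (hP _ (toConv π)⁻¹.ofConv).2 (inv_mem hπ) a ha
  exact Ideal.Quotient.eq_zero_iff_mem.1 h

/-- The ideal of points with a limit. -/
noncomputable def Jp : Ideal A := Ideal.span {x | ∃ n < 0, ∃ a, comp lam n a = x}

/-- The ideal of points tending to the identity. -/
noncomputable def Ju : Ideal A :=
  Ideal.span ({x | ∃ n < 0, ∃ a, comp lam n a = x} ∪
    {x | ∃ a, comp lam 0 a - algebraMap k A (Coalgebra.counit (R := k) a) = x})

theorem kills_span {R : Type u} [CommRing R] [Algebra k R] (g : A →ₐ[k] R) (s : Set A) :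
    (∀ a ∈ Ideal.span s, g a = 0) ↔ ∀ a ∈ s, g a = 0 :=
  ⟨fun h a ha => h a (Ideal.subset_span ha), fun h a ha =>
    (Ideal.span_le.2 h : Ideal.span s ≤ RingHom.ker g) ha⟩

theorem Jp_iff {R : Type u} [CommRing R] [Algebra k R] (g : A →ₐ[k] R) :
    (∀ a ∈ Jp lam, g a = 0) ↔ toConv g ∈ Plim lam R := by
  rw [Jp, kills_span, mem_Plim_iff]
  exact ⟨fun h n hn a => h _ ⟨n, hn, a, rfl⟩, by rintro h _ ⟨n, hn, a, rfl⟩; exact h n hn a⟩

theorem Ju_iff {R : Type u} [CommRing R] [Algebra k R] (g : A →ₐ[k] R) :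
    (∀ a ∈ Ju lam, g a = 0) ↔ toConv g ∈ Ulim lam R := by
  rw [Ju, kills_span, mem_Ulim_iff]
  constructor
  · intro h
    refine ⟨fun n hn a => h _ (Or.inl ⟨n, hn, a, rfl⟩), fun a => ?_⟩
    have := h _ (Or.inr ⟨a, rfl⟩)
    rwa [map_sub, AlgHom.commutes, sub_eq_zero] at this
  · rintro h _ (⟨n, hn, a, rfl⟩ | ⟨a, rfl⟩)
    · exact h.1 n hn a
    · rw [map_sub, AlgHom.commutes, sub_eq_zero]; exact h.2 a

end HopfIdeal

end Groth.Agent.Dyn50
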