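import Groth.Agent.Dyn50.Cell

/-! The big cell of a smooth group. -/

set_option autoImplicit false
set_option linter.unusedSectionVars false

universe u

open LaurentPolynomial TensorProduct WithConv

namespace Groth.Agent.Dyn50

variable {k : Type u} [CommRing k] {A : Type u} [CommRing A] [HopfAlgebra k A] [Algebra.Smooth k A]

theorem smooth_Ju {lam : A →ₐc[k] k[T;T⁻¹]} {Ju' : Ideal A} [Algebra.FinitePresentation k A]
    (hu : Dyn.Represents k A Ju' (fun R _ _ g => Dyn.LimIsOne k A lam R g)) : Algebra.Smooth k (A ⧸ Ju') := by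
  rw [represents_unique hu (represents_Ju lam)]
  refine ⟨?_, Algebra.FinitePresentation.quotient (Ju_fg lam)⟩
  refine Algebra.FormallySmooth.of_comp_surjective fun S _ _ I hI gb => ?_
  have hI' : ∀ a ∈ I, ∀ b ∈ I, a * b = 0 := fun a ha b hb => by
    have := Ideal.mul_mem_mul ha hb
    rwa [← pow_two, hI, Ideal.mem_bot] at this
  obtain ⟨g, hg, hgq⟩ := exists_lift_Ulim lam hI' (toConv (gb.comp (Ideal.Quotient.mkₐ k (Ju lam))))
    ((Ju_iff lam _).1 fun a ha => by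
      simp only [AlgHom.comp_apply, Ideal.Quotient.mkₐ_eq_mk]
      rw [Ideal.Quotient.eq_zero_iff_mem.2 ha, map_zero])
  refine ⟨Ideal.Quotient.liftₐ _ g.ofConv ((Ju_iff lam g.ofConv).2 hg), Ideal.Quotient.algHom_ext k ?_⟩
  exact AlgHom.ext fun a => DFunLike.congr_fun (congrArg WithConv.ofConv hgq) a

/-- Decompositions lift along square-zero extensions. -/
theorem smooth_lift_cell (lam : A →ₐc[k] k[T;T⁻¹]) {lamNeg : A →ₐc[k] k[T;T⁻¹]}
    (hneg : (lamNeg : A →ₐ[k] k[T;T⁻¹]) = Dyn.negParam k A lam) {S : Type u} [CommRing S] [Algebra k S]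
    (I : Ideal S) (hI : ∀ a ∈ I, ∀ b ∈ I, a * b = 0) (g : WithConv (A →ₐ[k] S))
    (ub pb : WithConv (A →ₐ[k] S ⧸ I)) (hu : ub ∈ Ulim lamNeg (S ⧸ I)) (hp : pb ∈ Plim lam (S ⧸ I))
    (h : ub * pb = push (Ideal.Quotient.mkₐ k I) g) : ∃ u ∈ Ulim lamNeg S, ∃ p ∈ Plim lam S, u * p = g := by
  obtain ⟨u, hu', huq⟩ := exists_lift_Ulim lamNeg hI ub hu
  obtain ⟨p, hp', hpq⟩ := exists_lift_Plim lam hI pb hp
  have hx : Near I (u⁻¹ * g * p⁻¹) := by
    rw [near_iff, map_mul, map_mul, map_inv, map_inv, huq, hpq, ← h]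
    exact mid_cancel _ _
  obtain ⟨y, z, -, -, hy, hz, hyz⟩ := near_split lam hneg hI hx
  refine ⟨u * y, mul_mem hu' hy, z * p, mul_mem hz hp', ?_⟩
  rw [mul_assoc, ← mul_assoc y, hyz]
  exact mid_expand _ _ _
where
  mid_cancel {G : Type u} [Group G] (a b : G) : a⁻¹ * (a * b) * b⁻¹ = 1 := by group
  mid_expand {G : Type u} [Group G] (a b c : G) : a * (a⁻¹ * b * c⁻¹ * c) = b := by group

end Groth.Agent.Dyn50
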