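import Groth.Agent.Dyn50.Embed
import Groth.Agent.Grp57.Component
import Groth.Agent.CAlg6.GeomTensor
import Mathlib.AlgebraicGeometry.Group.Affine
import Mathlib.RingTheory.Bialgebra.MonoidAlgebra

/-! Connectedness of the groups attached to a one-parameter subgroup. -/

set_option autoImplicit false
set_option linter.unusedSectionVars false

universe u

open LaurentPolynomial TensorProduct WithConv AlgebraicGeometry CategoryTheory

namespace Groth.Agent.Dyn50

variable {k : Type u} [Field k] {A : Type u} [CommRing A] [HopfAlgebra k A] (lam : A →ₐc[k] k[T;T⁻¹])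

/-- The opposite one-parameter subgroup. -/
noncomputable def negHom : A →ₐc[k] k[T;T⁻¹] :=
  (AddMonoidAlgebra.mapDomainBialgHom k (-AddMonoidHom.id ℤ)).comp lam

theorem negHom_eq : ((negHom lam : A →ₐc[k] k[T;T⁻¹]) : A →ₐ[k] k[T;T⁻¹]) = Dyn.negParam k A lam := by
  refine AlgHom.ext fun a => ?_
  show AddMonoidAlgebra.mapDomainBialgHom k (-AddMonoidHom.id ℤ) (lam a) = LaurentPolynomial.invert (lam a)
  induction lam a using AddMonoidAlgebra.induction_linear with
  | zero => simp
  | add x y hx hy => simp only [map_add, hx, hy]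
  | single n r =>
    rw [AddMonoidAlgebra.mapDomainBialgHom_single]
    simp [single_eq_C_mul_T]

theorem idempotent_Ju [(Ju lam).IsHopfIdeal k] (e : A ⧸ Ju lam) (he : IsIdempotentElem e) : e = 0 ∨ e = 1 := by
  have hr : gam lam e ∈ (toL (k := k) (R := A ⧸ Ju lam)).range := mem_range_toL fun n hn => hb_neg lam hn e
  obtain ⟨p, hp⟩ := hr
  have hpi : IsIdempotentElem p := toL_injective (k := k) (by
    show toL (k := k) (p * p) = toL (k := k) p
    rw [map_mul]
    show (toL (k := k)).toRingHom p * (toL (k := k)).toRingHom p = (toL (k := k)).toRingHom p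
    rw [hp, ← map_mul, he])
  have h0 : p.coeff 0 = hb lam 0 e := by
    show _ = (gam lam e).coeff ((0 : ℕ) : ℤ)
    rw [← hp]
    exact (toL_coeff p 0).symm
  have hpC : p = Polynomial.C (p.coeff 0) := by
    refine eq_of_isNilpotent_sub_of_isIdempotentElem hpi ?_ ?_
    · show Polynomial.C _ * Polynomial.C _ = Polynomial.C _
      rw [← map_mul, ← Polynomial.mul_coeff_zero, hpi]
    · rw [Polynomial.isNilpotent_iff]
      intro i
      rw [Polynomial.coeff_sub, Polynomial.coeff_C]
      rcases Nat.eq_zero_or_pos i with rfl | hi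
      · simp
      · rw [if_neg hi.ne', sub_zero]
        exact idempotent_coeff_nilpotent hpi hi
  have hev : e = p.coeff 0 := by
    obtain ⟨a, rfl⟩ := Ideal.Quotient.mkₐ_surjective k (Ju lam) e
    have h1 := DFunLike.congr_fun (congrArg WithConv.ofConv
      (ev1_orb lam (toConv (Ideal.Quotient.mkₐ k (Ju lam))))) a
    rw [push_apply, ← gam_apply_orb, ← hp] at h1
    refine h1.symm.trans ?_
    show ev1 (k := k) (toL (k := k) p) = _
    rw [toL_apply, hpC, Polynomial.toLaurent_C, ← single_eq_C, ev1_single, Polynomial.coeff_C_zero]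
  rw [hev, h0, hb_zero]
  have hc : IsIdempotentElem (Coalgebra.counit (R := k) e) := by
    show Coalgebra.counit (R := k) e * Coalgebra.counit (R := k) e = _
    rw [← Bialgebra.counit_mul, he]
  rcases IsIdempotentElem.iff_eq_zero_or_one.1 hc with h | h <;> simp [h]
where
  idempotent_coeff_nilpotent {R : Type u} [CommRing R] {p : Polynomial R} (hp : IsIdempotentElem p) {i : ℕ}
      (hi : 0 < i) : IsNilpotent (p.coeff i) := by
    rw [← mem_nilradical, nilradical_eq_sInf, Submodule.mem_sInf]
    intro P hP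
    have hP' : Ideal.IsPrime (P : Ideal R) := hP
    have hq : IsIdempotentElem (p.map (Ideal.Quotient.mk P)) := by
      show _ * _ = _
      rw [← Polynomial.map_mul, hp]
    refine Ideal.Quotient.eq_zero_iff_mem.1 ?_
    rw [← Polynomial.coeff_map]
    rcases IsIdempotentElem.iff_eq_zero_or_one.1 hq with h | h <;> rw [h]
    · exact Polynomial.coeff_zero i
    · rw [Polynomial.coeff_one, if_neg hi.ne']

theorem irreducible_of_noIdempotents (k : Type u) [Field k] {A : Type u} [CommRing A] [HopfAlgebra k A] (h : ∀ e : A, IsIdempotentElem e → e = 0 ∨ e = 1) :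
    IrreducibleSpace (PrimeSpectrum A) := by
  have : Nontrivial A := Bialgebra.nontrivial (R := k)
  have hc : ConnectedSpace (PrimeSpectrum A) := (CAlg6.connectedSpace_iff_idempotent A).2 ⟨this, h⟩
  let G : Over (Spec (CommRingCat.of k)) := (Spec (CommRingCat.of A)).asOver (Spec (CommRingCat.of k))
  have : ConnectedSpace G.left := hc
  have hi := (Grp57.connectedComponent_unit G).1
  rw [PreconnectedSpace.connectedComponent_eq_univ] at hi
  exact (irreducibleSpace_def _).2 hi

variable [Algebra.FiniteType k A]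

theorem idempotent_Jp (h : ∀ e : A, IsIdempotentElem e → e = 0 ∨ e = 1) (e : A ⧸ Jp lam) (he : IsIdempotentElem e) :
    e = 0 ∨ e = 1 := by
  have hI := irreducible_of_noIdempotents k h
  have hopen := isOpenImmersion_cell lam (negHom_eq lam) (represents_Jp lam) (represents_Ju (negHom lam))
  have hcl : ∀ a ∈ Ju (negHom lam), Bialgebra.counitAlgHom k A a = 0 :=
    (Ju_iff (negHom lam) _).2 (one_mem _)
  let ε : A ⧸ Ju (negHom lam) →ₐ[k] k := Ideal.Quotient.liftₐ _ (Bialgebra.counitAlgHom k A) hcl
  let back : (A ⧸ Ju (negHom lam)) ⊗[k] (A ⧸ Jp lam) →ₐ[k] A ⧸ Jp lam :=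
    Algebra.TensorProduct.lift ((Algebra.ofId k _).comp ε) (AlgHom.id k _) (fun _ _ => Commute.all _ _)
  have hback : ∀ x, back ((1 : A ⧸ Ju (negHom lam)) ⊗ₜ[k] x) = x := fun x => by simp [back]
  let E : (A ⧸ Ju (negHom lam)) ⊗[k] (A ⧸ Jp lam) := (1 : A ⧸ Ju (negHom lam)) ⊗ₜ[k] e
  have hE : IsIdempotentElem E := by
    show E * E = E
    rw [Algebra.TensorProduct.tmul_mul_tmul, one_mul, he]
  have hpre : PreirreducibleSpace (Spec (CommRingCat.of ((A ⧸ Ju (negHom lam)) ⊗[k] (A ⧸ Jp lam)))) := by
    have : PreirreducibleSpace ↥(Spec (CommRingCat.of A)) := hI.toPreirreducibleSpace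
    exact (Scheme.Hom.isOpenEmbedding
      (Spec.map (CommRingCat.ofHom (mu (k := k) (Ju (negHom lam)) (Jp lam)).toRingHom))).preirreducibleSpace
  have hdis : SetLike.coe (PrimeSpectrum.basicOpen E) ∩ SetLike.coe (PrimeSpectrum.basicOpen (1 - E)) = ∅ := by
    rw [← TopologicalSpace.Opens.coe_inf, ← PrimeSpectrum.basicOpen_mul, hE.mul_one_sub_self,
      PrimeSpectrum.basicOpen_zero]
    rfl
  have hone : ∀ F : (A ⧸ Ju (negHom lam)) ⊗[k] (A ⧸ Jp lam), IsIdempotentElem F →
      SetLike.coe (PrimeSpectrum.basicOpen F) = ∅ → F = 0 := fun F hF hF' =>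
    hF.eq_zero_of_isNilpotent (PrimeSpectrum.basicOpen_eq_bot_iff F |>.1 (SetLike.ext' hF'))
  rcases em (SetLike.coe (PrimeSpectrum.basicOpen E)).Nonempty with h1 | h1
  · rcases em (SetLike.coe (PrimeSpectrum.basicOpen (1 - E))).Nonempty with h2 | h2
    · obtain ⟨x, -, hx⟩ := hpre.isPreirreducible_univ _ _ (PrimeSpectrum.basicOpen E).isOpen
        (PrimeSpectrum.basicOpen (1 - E)).isOpen (h1.mono fun x hx => ⟨trivial, hx⟩) (h2.mono fun x hx => ⟨trivial, hx⟩)
      exact absurd (hdis ▸ hx : x ∈ (∅ : Set _)) (Set.notMem_empty x)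
    · right
      have := congrArg back (hone _ hE.one_sub (Set.not_nonempty_iff_eq_empty.1 h2))
      rw [map_sub, map_one, map_zero, hback, sub_eq_zero] at this
      exact this.symm
  · left
    have := congrArg back (hone _ hE (Set.not_nonempty_iff_eq_empty.1 h1))
    rwa [hback, map_zero] at this

end Groth.Agent.Dyn50
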