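import Groth.Agent.Dyn50.Lift
import Mathlib.AlgebraicGeometry.Morphisms.FlatMono
import Mathlib.AlgebraicGeometry.Morphisms.Etale
import Mathlib.RingTheory.Etale.Basic
import Mathlib.RingTheory.RingHom.Etale

/-! The big cell. -/

set_option autoImplicit false
set_option linter.unusedSectionVars false

universe u

open LaurentPolynomial TensorProduct WithConv

namespace Groth.Agent.Dyn50

open AlgebraicGeometry CategoryTheory

theorem isOpenImmersion_of_lift {A B : Type u} [CommRing A] [CommRing B] (μ : A →+* B) (hfp : μ.FinitePresentation)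
    (hepi : ∀ (S : Type u) [CommRing S] (f g : B →+* S), f.comp μ = g.comp μ → f = g)
    (hlift : ∀ (S : Type u) [CommRing S] (I : Ideal S), (∀ a ∈ I, ∀ b ∈ I, a * b = 0) → ∀ (f : A →+* S)
      (g : B →+* S ⧸ I), g.comp μ = (Ideal.Quotient.mk I).comp f →
        ∃ g' : B →+* S, g'.comp μ = f ∧ (Ideal.Quotient.mk I).comp g' = g) :
    IsOpenImmersion (Spec.map (CommRingCat.ofHom μ)) := by
  have het : μ.Etale := by
    letI := μ.toAlgebra
    have hfs : Algebra.FormallySmooth A B := by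
      refine Algebra.FormallySmooth.of_comp_surjective fun S _ _ I hI g => ?_
      have hI' : ∀ a ∈ I, ∀ b ∈ I, a * b = 0 := fun a ha b hb => by
        have := Ideal.mul_mem_mul ha hb
        rwa [← pow_two, hI, Ideal.mem_bot] at this
      obtain ⟨g', h1, h2⟩ := hlift S I hI' (algebraMap A S) g.toRingHom (g.comp_algebraMap)
      exact ⟨{ g' with commutes' := fun a => RingHom.congr_fun h1 a },
        AlgHom.ext fun b => RingHom.congr_fun h2 b⟩
    have hfu : Algebra.FormallyUnramified A B := by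
      refine Algebra.FormallyUnramified.iff_comp_injective.2 fun S _ _ I _ f g _ => ?_
      exact AlgHom.ext (RingHom.congr_fun (hepi S f.toRingHom g.toRingHom
        (f.comp_algebraMap.trans g.comp_algebraMap.symm)))
    have : Algebra.FormallyEtale A B := Algebra.FormallyEtale.of_formallyUnramified_and_formallySmooth
    have hfp' : Algebra.FinitePresentation A B := hfp
    exact (⟨inferInstance, hfp'⟩ : Algebra.Etale A B)
  have : Etale (Spec.map (CommRingCat.ofHom μ)) := (HasRingHomProperty.Spec_iff (P := @Etale)).2 het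
  have hepiC : Epi (CommRingCat.ofHom μ) := ⟨fun f g h =>
    CommRingCat.hom_ext (hepi _ f.hom g.hom (congrArg CommRingCat.Hom.hom h))⟩
  have : Mono (CommRingCat.ofHom μ).op := inferInstance
  have : Mono (Spec.map (CommRingCat.ofHom μ)) :=
    inferInstanceAs (Mono (Scheme.Spec.map (CommRingCat.ofHom μ).op))
  exact IsOpenImmersion.of_flat_of_mono _

theorem finitePresentation_of_algHom {k A B : Type u} [CommRing k] [CommRing A] [Algebra k A] [CommRing B]
    [Algebra k B] [Algebra.FiniteType k A] [Algebra.FinitePresentation k B] (μ : A →ₐ[k] B) :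
    μ.toRingHom.FinitePresentation := by
  algebraize [μ.toRingHom]
  have : IsScalarTower k A B := IsScalarTower.of_algebraMap_eq fun r => (μ.commutes r).symm
  exact Algebra.FinitePresentation.of_restrict_scalars_finitePresentation k A B

variable {k : Type u} [CommRing k] {A : Type u} [CommRing A] [HopfAlgebra k A] {lam lamNeg : A →ₐc[k] k[T;T⁻¹]}
variable {Jp Jm : Ideal A}

/-- Pairs of points, as points of the product. -/
noncomputable def pairPt {S : Type u} [CommRing S] [Algebra k S] (f : (A ⧸ Jm) ⊗[k] (A ⧸ Jp) →ₐ[k] S) :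
    WithConv (A →ₐ[k] S) × WithConv (A →ₐ[k] S) :=
  (toConv ((f.comp Algebra.TensorProduct.includeLeft).comp (Ideal.Quotient.mkₐ k Jm)),
   toConv ((f.comp Algebra.TensorProduct.includeRight).comp (Ideal.Quotient.mkₐ k Jp)))

/-- The multiplication map. -/
noncomputable def mu (Jm Jp : Ideal A) : A →ₐ[k] (A ⧸ Jm) ⊗[k] (A ⧸ Jp) :=
  (Algebra.TensorProduct.map (Ideal.Quotient.mkₐ k Jm) (Ideal.Quotient.mkₐ k Jp)).comp (Bialgebra.comulAlgHom k A)

theorem comp_mu {S : Type u} [CommRing S] [Algebra k S] (f : (A ⧸ Jm) ⊗[k] (A ⧸ Jp) →ₐ[k] S) :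
    toConv (f.comp (mu Jm Jp)) = (pairPt f).1 * (pairPt f).2 := by
  refine WithConv.ofConv_injective (AlgHom.ext fun a => ?_)
  rw [AlgHom.convMul_apply]
  show f (Algebra.TensorProduct.map _ _ (Coalgebra.comul (R := k) a)) = _
  generalize Coalgebra.comul (R := k) a = t
  induction t using TensorProduct.induction_on with
  | zero => simp
  | add p q hp hq => simp only [map_add, hp, hq]
  | tmul b c =>
    rw [Algebra.TensorProduct.map_tmul, Algebra.TensorProduct.lift_tmul]
    show _ = f (_ ⊗ₜ[k] 1) * f (1 ⊗ₜ[k] _)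
    rw [← map_mul, Algebra.TensorProduct.tmul_mul_tmul, mul_one, one_mul]
    rfl

variable (hp : Dyn.Represents k A Jp (fun R _ _ g => Dyn.LimExists k A lam R g))
  (hm : Dyn.Represents k A Jm (fun R _ _ g => Dyn.LimIsOne k A lamNeg R g))
include hp hm

theorem pairPt_mem {S : Type u} [CommRing S] [Algebra k S] (f : (A ⧸ Jm) ⊗[k] (A ⧸ Jp) →ₐ[k] S) :
    (pairPt f).1 ∈ Ulim lamNeg S ∧ (pairPt f).2 ∈ Plim lam S := by
  refine ⟨(limIsOne_iff lamNeg _).1 ((hm S _).1 fun a ha => ?_), (limExists_iff lam _).1 ((hp S _).1 fun a ha => ?_)⟩ <;>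
    simp only [pairPt, AlgHom.comp_apply] <;>
    rw [Ideal.Quotient.mkₐ_eq_mk, Ideal.Quotient.eq_zero_iff_mem.2 ha, map_zero, map_zero]

theorem exists_pair {S : Type u} [CommRing S] [Algebra k S] {u p : WithConv (A →ₐ[k] S)} (hu : u ∈ Ulim lamNeg S)
    (hp' : p ∈ Plim lam S) : ∃ f : (A ⧸ Jm) ⊗[k] (A ⧸ Jp) →ₐ[k] S, pairPt f = (u, p) := by
  refine ⟨Algebra.TensorProduct.lift
    (Ideal.Quotient.liftₐ Jm u.ofConv ((hm S _).2 ((limIsOne_iff lamNeg _).2 hu)))
    (Ideal.Quotient.liftₐ Jp p.ofConv ((hp S _).2 ((limExists_iff lam _).2 hp'))) (fun _ _ => Commute.all _ _), ?_⟩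
  refine Prod.ext (WithConv.ofConv_injective (AlgHom.ext fun a => ?_))
    (WithConv.ofConv_injective (AlgHom.ext fun a => ?_)) <;> simp [pairPt]

theorem pairPt_ext {S : Type u} [CommRing S] [Algebra k S] {f g : (A ⧸ Jm) ⊗[k] (A ⧸ Jp) →ₐ[k] S}
    (h : pairPt f = pairPt g) : f = g := by
  refine Algebra.TensorProduct.ext ?_ ?_
  · refine Ideal.Quotient.algHom_ext k ?_
    exact congrArg WithConv.ofConv (congrArg Prod.fst h)
  · refine Ideal.Quotient.algHom_ext k ?_
    exact congrArg WithConv.ofConv (congrArg Prod.snd h)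

variable (hneg : (lamNeg : A →ₐ[k] k[T;T⁻¹]) = Dyn.negParam k A lam)
include hneg

/-- The open immersion criterion: lifting of decompositions suffices. -/
theorem isOpenImmersion_mu [Algebra.FinitePresentation k A]
    (hlift : ∀ (S : Type u) [CommRing S] [Algebra k S] (I : Ideal S), (∀ a ∈ I, ∀ b ∈ I, a * b = 0) →
      ∀ (g : WithConv (A →ₐ[k] S)) (ub pb : WithConv (A →ₐ[k] S ⧸ I)), ub ∈ Ulim lamNeg (S ⧸ I) →
        pb ∈ Plim lam (S ⧸ I) → ub * pb = push (Ideal.Quotient.mkₐ k I) g →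
        ∃ u ∈ Ulim lamNeg S, ∃ p ∈ Plim lam S, u * p = g) :
    IsOpenImmersion (Spec.map (CommRingCat.ofHom (mu (k := k) Jm Jp).toRingHom)) := by
  have hfp : (mu (k := k) Jm Jp).toRingHom.FinitePresentation := by
    rw [represents_unique hm (represents_Ju lamNeg), represents_unique hp (represents_Jp lam)]
    have : Algebra.FinitePresentation k (A ⧸ Ju lamNeg) := Algebra.FinitePresentation.quotient (Ju_fg lamNeg)
    have : Algebra.FinitePresentation k (A ⧸ Dyn50.Jp lam) := Algebra.FinitePresentation.quotient (Jp_fg lam)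
    have : Algebra.FinitePresentation (A ⧸ Ju lamNeg) ((A ⧸ Ju lamNeg) ⊗[k] (A ⧸ Dyn50.Jp lam)) :=
      Algebra.FinitePresentation.baseChange _
    have : Algebra.FinitePresentation k ((A ⧸ Ju lamNeg) ⊗[k] (A ⧸ Dyn50.Jp lam)) :=
      Algebra.FinitePresentation.trans k (A ⧸ Ju lamNeg) ((A ⧸ Ju lamNeg) ⊗[k] (A ⧸ Dyn50.Jp lam))
    exact finitePresentation_of_algHom (mu (k := k) (Ju lamNeg) (Dyn50.Jp lam))
  refine isOpenImmersion_of_lift _ hfp ?_ ?_
  · intro S _ f g h
    letI : Algebra k S := (f.comp (algebraMap k _)).toAlgebra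
    let f' : (A ⧸ Jm) ⊗[k] (A ⧸ Jp) →ₐ[k] S := { f with commutes' := fun _ => rfl }
    have hc : ∀ r : k, g (algebraMap k _ r) = f (algebraMap k _ r) := fun r => by
      rw [← (mu (k := k) Jm Jp).commutes r]
      exact (RingHom.congr_fun h (algebraMap k A r)).symm
    let g' : (A ⧸ Jm) ⊗[k] (A ⧸ Jp) →ₐ[k] S := { g with commutes' := hc }
    have h' : (pairPt f').1 * (pairPt f').2 = (pairPt g').1 * (pairPt g').2 := by
      rw [← comp_mu, ← comp_mu]
      exact congrArg toConv (AlgHom.ext fun a => RingHom.congr_fun h a)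
    obtain ⟨e1, e2⟩ := mul_injective lam hneg (pairPt_mem hp hm f').1 (pairPt_mem hp hm g').1
      (pairPt_mem hp hm f').2 (pairPt_mem hp hm g').2 h'
    have := pairPt_ext hp hm (Prod.ext e1 e2)
    exact congrArg AlgHom.toRingHom this
  · intro S _ I hI f g h
    letI : Algebra k S := (f.comp (algebraMap k A)).toAlgebra
    have hc : ∀ r : k, g (algebraMap k _ r) = algebraMap k (S ⧸ I) r := fun r => by
      rw [← (mu (k := k) Jm Jp).commutes r]
      exact RingHom.congr_fun h (algebraMap k A r)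
    let g0 : (A ⧸ Jm) ⊗[k] (A ⧸ Jp) →ₐ[k] S ⧸ I := { g with commutes' := hc }
    let f0 : A →ₐ[k] S := { f with commutes' := fun _ => rfl }
    obtain ⟨u, hu, p, hp', hup⟩ := hlift S I hI (toConv f0) _ _ (pairPt_mem hp hm g0).1 (pairPt_mem hp hm g0).2
      (by rw [← comp_mu]; exact congrArg toConv (AlgHom.ext fun a => RingHom.congr_fun h a))
    obtain ⟨G, hG⟩ := exists_pair hp hm hu hp'
    have hGmu : G.comp (mu Jm Jp) = f0 := by
      refine congrArg WithConv.ofConv (?_ : toConv (G.comp (mu Jm Jp)) = toConv f0)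
      rw [comp_mu, hG, hup]
    refine ⟨G.toRingHom, RingHom.ext fun a => DFunLike.congr_fun hGmu a, ?_⟩
    let q := Ideal.Quotient.mkₐ k I
    have hq : (pairPt (q.comp G)).1 * (pairPt (q.comp G)).2 = (pairPt g0).1 * (pairPt g0).2 := by
      rw [← comp_mu, ← comp_mu]
      refine congrArg toConv (AlgHom.ext fun a => ?_)
      show q (G (mu Jm Jp a)) = g0 (mu Jm Jp a)
      rw [show G (mu Jm Jp a) = f a from DFunLike.congr_fun hGmu a]
      exact (RingHom.congr_fun h a).symm
    obtain ⟨e1, e2⟩ := mul_injective lam hneg (pairPt_mem hp hm (q.comp G)).1 (pairPt_mem hp hm g0).1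
      (pairPt_mem hp hm (q.comp G)).2 (pairPt_mem hp hm g0).2 hq
    exact congrArg AlgHom.toRingHom (pairPt_ext hp hm (Prod.ext e1 e2))

omit hm hneg in
theorem smooth_Jp [Algebra.FinitePresentation k A] [Algebra.Smooth k A] : Algebra.Smooth k (A ⧸ Jp) := by
  rw [represents_unique hp (represents_Jp lam)]
  refine ⟨?_, Algebra.FinitePresentation.quotient (Jp_fg lam)⟩
  refine Algebra.FormallySmooth.of_comp_surjective fun S _ _ I hI gb => ?_
  have hI' : ∀ a ∈ I, ∀ b ∈ I, a * b = 0 := fun a ha b hb => by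
    have := Ideal.mul_mem_mul ha hb
    rwa [← pow_two, hI, Ideal.mem_bot] at this
  obtain ⟨g, hg, hgq⟩ := exists_lift_Plim lam hI' (toConv (gb.comp (Ideal.Quotient.mkₐ k (Dyn50.Jp lam))))
    ((Jp_iff lam _).1 fun a ha => by
      simp only [AlgHom.comp_apply, Ideal.Quotient.mkₐ_eq_mk]
      rw [Ideal.Quotient.eq_zero_iff_mem.2 ha, map_zero])
  refine ⟨Ideal.Quotient.liftₐ _ g.ofConv ((Jp_iff lam g.ofConv).2 hg), Ideal.Quotient.algHom_ext k ?_⟩
  exact AlgHom.ext fun a => DFunLike.congr_fun (congrArg WithConv.ofConv hgq) a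

end Groth.Agent.Dyn50
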