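import Mathlib.RingTheory.HopfAlgebra.Basic
import Mathlib.RingTheory.Bialgebra.Hom
import Mathlib.LinearAlgebra.Matrix.MvPolynomial
import Mathlib.LinearAlgebra.Matrix.NonsingularInverse
import Mathlib.RingTheory.Smooth.Basic
import Mathlib.RingTheory.Localization.Away.Basic
import Mathlib.RingTheory.TensorProduct.Maps

/-! The coordinate Hopf algebra of the general linear group. -/

set_option autoImplicit false

universe u

open TensorProduct Matrix

namespace Groth.Agent.Dyn50.GL

variable (k : Type u) [CommRing k] (ι : Type) [Fintype ι] [DecidableEq ι]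

/-- Polynomial functions on matrices. -/
abbrev Mat := MvPolynomial (ι × ι) k

/-- The coordinate ring of `GL`. -/
def O : Type u := Localization.Away (Matrix.det (mvPolynomialX ι ι k) : Mat k ι)

noncomputable instance : CommRing (O k ι) :=
  inferInstanceAs (CommRing (Localization.Away (Matrix.det (mvPolynomialX ι ι k) : Mat k ι)))

noncomputable instance instAlgMat : Algebra (Mat k ι) (O k ι) :=
  inferInstanceAs (Algebra (Mat k ι) (Localization.Away (Matrix.det (mvPolynomialX ι ι k) : Mat k ι)))

noncomputable instance instAlg : Algebra k (O k ι) :=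
  inferInstanceAs (Algebra k (Localization.Away (Matrix.det (mvPolynomialX ι ι k) : Mat k ι)))

instance : IsScalarTower k (Mat k ι) (O k ι) :=
  inferInstanceAs (IsScalarTower k (Mat k ι) (Localization.Away (Matrix.det (mvPolynomialX ι ι k) : Mat k ι)))

instance : IsLocalization (Submonoid.powers (Matrix.det (mvPolynomialX ι ι k) : Mat k ι)) (O k ι) :=
  inferInstanceAs (IsLocalization _ (Localization.Away (Matrix.det (mvPolynomialX ι ι k) : Mat k ι)))

/-- The universal invertible matrix. -/
noncomputable def M : Matrix ι ι (O k ι) := (mvPolynomialX ι ι k).map (algebraMap (Mat k ι) (O k ι))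

theorem isUnit_det_M : IsUnit (M k ι).det := by
  rw [M, ← RingHom.mapMatrix_apply, ← RingHom.map_det]
  exact IsLocalization.Away.algebraMap_isUnit _

variable {k ι} {R : Type u} [CommRing R] [Algebra k R]

/-- The point given by an invertible matrix. -/
noncomputable def pt (X : Matrix ι ι R) (hX : IsUnit X.det) : O k ι →ₐ[k] R :=
  IsLocalization.liftAlgHom (M := Submonoid.powers (Matrix.det (mvPolynomialX ι ι k) : Mat k ι))
    (f := MvPolynomial.aeval fun p : ι × ι => X p.1 p.2) fun y => by
      obtain ⟨y, n, rfl⟩ := y
      simp only [map_pow]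
      refine IsUnit.pow n ?_
      rw [AlgHom.map_det]
      convert hX using 2
      ext i j
      simp

theorem pt_map (X : Matrix ι ι R) (hX : IsUnit X.det) : (M k ι).map (pt X hX) = X := by
  ext i j
  simp [M, pt]

theorem hom_ext {f g : O k ι →ₐ[k] R} (h : (M k ι).map f = (M k ι).map g) : f = g := by
  refine IsLocalization.algHom_ext (Submonoid.powers (Matrix.det (mvPolynomialX ι ι k) : Mat k ι)) ?_
  refine MvPolynomial.algHom_ext fun p => ?_
  exact (show f (algebraMap (Mat k ι) (O k ι) (MvPolynomial.X p)) = g (algebraMap (Mat k ι) (O k ι) (MvPolynomial.X p))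
    by simpa [M] using congrFun (congrFun h p.1) p.2)

theorem isUnit_det_map {S : Type u} [CommRing S] [Algebra k S] (f : R →ₐ[k] S) {X : Matrix ι ι R}
    (hX : IsUnit X.det) : IsUnit (X.map f).det := by
  rw [← AlgHom.mapMatrix_apply, ← AlgHom.map_det]
  exact hX.map f

theorem isUnit_det_prod {S : Type u} [CommRing S] [Algebra k S] (f g : O k ι →ₐ[k] S) :
    IsUnit ((M k ι).map f * (M k ι).map g).det := by
  rw [Matrix.det_mul]
  exact (isUnit_det_map f (isUnit_det_M k ι)).mul (isUnit_det_map g (isUnit_det_M k ι))

/-- Left embedding. -/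
noncomputable def iL : O k ι →ₐ[k] O k ι ⊗[k] O k ι := Algebra.TensorProduct.includeLeft
/-- Right embedding. -/
noncomputable def iR : O k ι →ₐ[k] O k ι ⊗[k] O k ι := Algebra.TensorProduct.includeRight

/-- Comultiplication. -/
noncomputable def comul : O k ι →ₐ[k] O k ι ⊗[k] O k ι :=
  pt ((M k ι).map iL * (M k ι).map iR) (isUnit_det_prod iL iR)

/-- Counit. -/
noncomputable def counit : O k ι →ₐ[k] k := pt 1 (by simp)

/-- Inversion. -/
noncomputable def antipode : O k ι →ₐ[k] O k ι :=
  pt (M k ι)⁻¹ (Matrix.isUnit_nonsing_inv_det _ (isUnit_det_M k ι))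

theorem comul_map {S : Type u} [CommRing S] [Algebra k S] (f : O k ι ⊗[k] O k ι →ₐ[k] S) :
    (M k ι).map (f.comp comul) = (M k ι).map (f.comp iL) * (M k ι).map (f.comp iR) := by
  have h : (M k ι).map (f.comp comul) = ((M k ι).map comul).map f := by rw [Matrix.map_map]; rfl
  rw [h, comul, pt_map, Matrix.map_mul, Matrix.map_map, Matrix.map_map]
  rfl

noncomputable instance : Bialgebra k (O k ι) :=
  Bialgebra.ofAlgHom comul counit
    (by
      apply hom_ext
      rw [← AlgHom.comp_assoc, comul_map, comul_map]
      have h1 : ((Algebra.TensorProduct.assoc k k k (O k ι) (O k ι) (O k ι)).toAlgHom.comp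
          (Algebra.TensorProduct.map comul (AlgHom.id k (O k ι)))).comp iL =
          ((Algebra.TensorProduct.assoc k k k (O k ι) (O k ι) (O k ι)).toAlgHom.comp
            Algebra.TensorProduct.includeLeft).comp comul :=
        AlgHom.ext fun x => by simp [iL]
      rw [h1, comul_map]
      have h2 : (Algebra.TensorProduct.map (AlgHom.id k (O k ι)) comul).comp iR =
          (Algebra.TensorProduct.includeRight : O k ι ⊗[k] O k ι →ₐ[k] O k ι ⊗[k] (O k ι ⊗[k] O k ι)).comp comul :=
        AlgHom.ext fun x => by simp [iR]
      rw [h2, comul_map, Matrix.mul_assoc]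
      congr 1
      · ext i j; simp [iL, Algebra.TensorProduct.one_def]
      · congr 1 <;> (ext i j; simp [iL, iR, Algebra.TensorProduct.one_def]))
    (by
      apply hom_ext
      rw [comul_map]
      have h1 : (M k ι).map ((Algebra.TensorProduct.map counit (AlgHom.id k (O k ι))).comp iL) = 1 := by
        have : (Algebra.TensorProduct.map counit (AlgHom.id k (O k ι))).comp iL =
            (Algebra.TensorProduct.includeLeft : k →ₐ[k] k ⊗[k] O k ι).comp counit := AlgHom.ext fun x => by simp [iL]
        rw [this, AlgHom.coe_comp, ← Matrix.map_map, counit, pt_map, Matrix.map_one _ (map_zero _) (map_one _)]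
      rw [h1, Matrix.one_mul]
      ext i j; simp [iR])
    (by
      apply hom_ext
      rw [comul_map]
      have h1 : (M k ι).map ((Algebra.TensorProduct.map (AlgHom.id k (O k ι)) counit).comp iR) = 1 := by
        have : (Algebra.TensorProduct.map (AlgHom.id k (O k ι)) counit).comp iR =
            (Algebra.TensorProduct.includeRight : k →ₐ[k] O k ι ⊗[k] k).comp counit := AlgHom.ext fun x => by simp [iR]
        rw [this, AlgHom.coe_comp, ← Matrix.map_map, counit, pt_map, Matrix.map_one _ (map_zero _) (map_one _)]
      rw [h1, Matrix.mul_one]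
      ext i j; simp [iL])

theorem comulAlgHom_eq : Bialgebra.comulAlgHom k (O k ι) = comul := AlgHom.ext fun _ => rfl

theorem counitAlgHom_eq : Bialgebra.counitAlgHom k (O k ι) = counit := AlgHom.ext fun _ => rfl

theorem counit_target : (M k ι).map ((Algebra.ofId k (O k ι)).comp counit) = 1 := by
  rw [AlgHom.coe_comp, ← Matrix.map_map, counit, pt_map, Matrix.map_one _ (map_zero _) (map_one _)]

noncomputable instance : HopfAlgebra k (O k ι) :=
  HopfAlgebra.ofAlgHom antipode
    (by
      apply hom_ext
      rw [comulAlgHom_eq, counitAlgHom_eq, comul_map, counit_target]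
      refine Eq.trans ?_ (Matrix.nonsing_inv_mul _ (isUnit_det_M k ι))
      congr 1
      · conv_rhs => rw [← pt_map (k := k) (R := O k ι) (M k ι)⁻¹ (Matrix.isUnit_nonsing_inv_det _ (isUnit_det_M k ι))]
        ext i j; simp [iL, antipode]
      · ext i j; simp [iR])
    (by
      apply hom_ext
      rw [comulAlgHom_eq, counitAlgHom_eq, comul_map, counit_target]
      refine Eq.trans ?_ (Matrix.mul_nonsing_inv _ (isUnit_det_M k ι))
      congr 1
      · ext i j; simp [iL]
      · conv_rhs => rw [← pt_map (k := k) (R := O k ι) (M k ι)⁻¹ (Matrix.isUnit_nonsing_inv_det _ (isUnit_det_M k ι))]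
        ext i j; simp [iR, antipode])

instance : Algebra.FinitePresentation k (O k ι) :=
  have : Algebra.FinitePresentation (Mat k ι) (O k ι) := IsLocalization.Away.finitePresentation (Matrix.det (mvPolynomialX ι ι k))
  Algebra.FinitePresentation.trans k (Mat k ι) (O k ι)

instance : Algebra.Smooth k (O k ι) where
  formallySmooth :=
    have : Algebra.FormallySmooth (Mat k ι) (O k ι) :=
      Algebra.FormallySmooth.of_isLocalization (Submonoid.powers (Matrix.det (mvPolynomialX ι ι k)))
    Algebra.FormallySmooth.comp k (Mat k ι) (O k ι)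

end Groth.Agent.Dyn50.GL
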