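import Groth.Agent.Dyn50.More
import Groth.Prelude.Def_HopfRep
import Mathlib.LinearAlgebra.TensorProduct.Finiteness
import Mathlib.RingTheory.Flat.Basic

/-! The points tending to the identity form a unipotent group. -/

set_option autoImplicit false
set_option linter.unusedSectionVars false

universe u

open LaurentPolynomial TensorProduct WithConv

namespace Groth.Agent.Dyn50

section Fin

variable {k : Type u} [CommRing k] {B N : Type u} [AddCommGroup B] [Module k B] [AddCommGroup N] [Module k N]
  (p : ℤ → B →ₗ[k] B)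

theorem exists_degrees (hp : ∀ b, ∃ s : Finset ℤ, (∀ n ∉ s, p n b = 0) ∧ ∑ n ∈ s, p n b = b) (z : N ⊗[k] B) :
    ∃ s : Finset ℤ, (∀ n ∉ s, (p n).lTensor N z = 0) ∧ ∑ n ∈ s, (p n).lTensor N z = z := by
  classical
  induction z using TensorProduct.induction_on with
  | zero => exact ⟨∅, by simp, by simp⟩
  | tmul x b =>
    obtain ⟨s, h1, h2⟩ := hp b
    exact ⟨s, fun n hn => by simp [h1 n hn], by simp [← TensorProduct.tmul_sum, h2]⟩
  | add y z hy hz =>
    obtain ⟨s, hs1, hs2⟩ := hy
    obtain ⟨t, ht1, ht2⟩ := hz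
    refine ⟨s ∪ t, fun n hn => ?_, ?_⟩
    · rw [Finset.mem_union, not_or] at hn
      rw [map_add, hs1 n hn.1, ht1 n hn.2, add_zero]
    · simp only [map_add, Finset.sum_add_distrib]
      rw [← Finset.sum_subset Finset.subset_union_left (fun n _ hn => hs1 n hn),
        ← Finset.sum_subset Finset.subset_union_right (fun n _ hn => ht1 n hn), hs2, ht2]

theorem eq_zero_of_degrees (hp : ∀ b, ∃ s : Finset ℤ, (∀ n ∉ s, p n b = 0) ∧ ∑ n ∈ s, p n b = b)
    (z : B ⊗[k] N) (hz : ∀ n, (p n).rTensor N z = 0) : z = 0 := by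
  have key : ∀ n, (p n).lTensor N (TensorProduct.comm k B N z) = TensorProduct.comm k B N ((p n).rTensor N z) := by
    intro n
    clear hz
    induction z using TensorProduct.induction_on with
    | zero => simp
    | tmul x y => simp
    | add x y hx hy => simp [hx, hy]
  obtain ⟨s, -, hs⟩ := exists_degrees p hp (TensorProduct.comm k B N z)
  refine (TensorProduct.comm k B N).injective ?_
  rw [map_zero, ← hs]
  exact Finset.sum_eq_zero fun n _ => by rw [key, hz, map_zero]

end Fin

section Grading

variable {k : Type u} [Field k] {A : Type u} [CommRing A] [HopfAlgebra k A] (lam : A →ₐc[k] k[T;T⁻¹])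

/-- The reduced orbit of the universal point. -/
noncomputable def univU : A →ₐ[k] (A ⧸ Ju lam)[T;T⁻¹] := (mapL (Ideal.Quotient.mkₐ k (Ju lam))).comp (univ lam)

theorem univU_eq_zero : ∀ a ∈ Ju lam, univU lam a = 0 := by
  have h : ∀ g : A, ∀ n : ℤ, univ lam g = AddMonoidAlgebra.single n g → g ∈ Ju lam → univU lam g = 0 := by
    intro g n hu hg
    show mapL _ (univ lam g) = 0
    rw [hu, mapL_single, show Ideal.Quotient.mkₐ k (Ju lam) g = 0 from Ideal.Quotient.eq_zero_iff_mem.2 hg,
      AddMonoidAlgebra.single_zero]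
  refine (kills_span (univU lam) _).2 ?_
  rintro x (⟨n, hn, a, rfl⟩ | ⟨a, rfl⟩)
  · exact h _ n (univ_comp lam n a) (Ideal.subset_span (Or.inl ⟨n, hn, a, rfl⟩))
  · refine h _ 0 ?_ (Ideal.subset_span (Or.inr ⟨a, rfl⟩))
    rw [map_sub, univ_comp, AlgHom.commutes, AddMonoidAlgebra.single_sub, IsScalarTower.algebraMap_apply k A A[T;T⁻¹],
      ← C_eq_algebraMap, single_eq_C, single_eq_C]

/-- The grading of the ring of the group of points tending to the identity. -/
noncomputable def gam : A ⧸ Ju lam →ₐ[k] (A ⧸ Ju lam)[T;T⁻¹] :=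
  Ideal.Quotient.liftₐ (Ju lam) (univU lam) (univU_eq_zero lam)

/-- Its components. -/
noncomputable def hb (n : ℤ) : A ⧸ Ju lam →ₗ[k] A ⧸ Ju lam where
  toFun b := (gam lam b).coeff n
  map_add' a b := by rw [map_add, AddMonoidAlgebra.coeff_add, Finsupp.add_apply]
  map_smul' r a := by rw [map_smul, AddMonoidAlgebra.coeff_smul, Finsupp.smul_apply, RingHom.id_apply]

theorem hb_mk (n : ℤ) (a : A) :
    hb lam n (Ideal.Quotient.mkₐ k (Ju lam) a) = Ideal.Quotient.mkₐ k (Ju lam) (comp lam n a) :=
  coeff_mapL (Ideal.Quotient.mkₐ k (Ju lam)) (univ lam a) n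

theorem gam_apply_orb (a : A) :
    gam lam (Ideal.Quotient.mkₐ k (Ju lam) a) =
      (orb lam (A ⧸ Ju lam) (toConv (Ideal.Quotient.mkₐ k (Ju lam)))).ofConv a :=
  (orb_apply lam _ a).symm

theorem hb_degrees (b : A ⧸ Ju lam) :
    ∃ s : Finset ℤ, (∀ n ∉ s, hb lam n b = 0) ∧ ∑ n ∈ s, hb lam n b = b := by
  classical
  obtain ⟨a, rfl⟩ := Ideal.Quotient.mkₐ_surjective k (Ju lam) b
  refine ⟨(gam lam (Ideal.Quotient.mkₐ k (Ju lam) a)).coeff.support, fun n hn => Finsupp.notMem_support_iff.1 hn, ?_⟩
  have h1 := DFunLike.congr_fun (congrArg WithConv.ofConv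
    (ev1_orb lam (toConv (Ideal.Quotient.mkₐ k (Ju lam))))) a
  rw [push_apply, ← gam_apply_orb] at h1
  refine Eq.trans ?_ h1
  conv_rhs => rw [← AddMonoidAlgebra.sum_coeff_single (gam lam (Ideal.Quotient.mkₐ k (Ju lam) a)), Finsupp.sum, map_sum]
  exact Finset.sum_congr rfl fun n _ => (ev1_single (k := k) n _).symm

variable [(Ju lam).IsHopfIdeal k]

theorem hb_zero (b : A ⧸ Ju lam) : hb lam 0 b = algebraMap k _ (Coalgebra.counit (R := k) b) := by
  obtain ⟨a, rfl⟩ := Ideal.Quotient.mkₐ_surjective k (Ju lam) b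
  rw [hb_mk]
  have h : Ideal.Quotient.mkₐ k (Ju lam) (comp lam 0 a - algebraMap k A (Coalgebra.counit (R := k) a)) = 0 :=
    Ideal.Quotient.eq_zero_iff_mem.2 (Ideal.subset_span (Or.inr ⟨a, rfl⟩))
  rw [map_sub, sub_eq_zero, AlgHom.commutes] at h
  exact h

theorem hb_neg {n : ℤ} (hn : n < 0) (b : A ⧸ Ju lam) : hb lam n b = 0 := by
  obtain ⟨a, rfl⟩ := Ideal.Quotient.mkₐ_surjective k (Ju lam) b
  rw [hb_mk]
  exact Ideal.Quotient.eq_zero_iff_mem.2 (Ideal.subset_span (Or.inl ⟨n, hn, a, rfl⟩))

theorem hb_hb (m n : ℤ) (b : A ⧸ Ju lam) : hb lam m (hb lam n b) = if m = n then hb lam n b else 0 := by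
  obtain ⟨a, rfl⟩ := Ideal.Quotient.mkₐ_surjective k (Ju lam) b
  rw [hb_mk, hb_mk, comp_apply lam m, univ_comp, coeff_single, apply_ite (Ideal.Quotient.mkₐ k (Ju lam)), map_zero]

local notation "B" => A ⧸ Ju lam

/-- The comultiplication respects the grading. -/
theorem comul_graded {i d n : ℤ} (hn : n ≠ i + d) (b : B) :
    TensorProduct.map (hb lam i) (hb lam d) (Coalgebra.comul (R := k) (hb lam n b)) = 0 := by
  classical
  obtain ⟨a, rfl⟩ := Ideal.Quotient.mkₐ_surjective k (Ju lam) b
  let inl : B →ₐ[k] B ⊗[k] B := Algebra.TensorProduct.includeLeft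
  let inr : B →ₐ[k] B ⊗[k] B := Algebra.TensorProduct.includeRight
  let π := Ideal.Quotient.mkₐ k (Ju lam)
  let P : WithConv (A →ₐ[k] B ⊗[k] B) := toConv (inl.comp π) * toConv (inr.comp π)
  have hP : ∀ x : A, P.ofConv x = Coalgebra.comul (R := k) (π x) := by
    intro x
    show (toConv (inl.comp π) * toConv (inr.comp π)).ofConv x = _
    rw [AlgHom.convMul_apply]
    show _ = TensorProduct.map π.toLinearMap π.toLinearMap (Coalgebra.comul (R := k) x)
    generalize Coalgebra.comul (R := k) x = t
    induction t using TensorProduct.induction_on with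
    | zero => simp
    | add x y hx hy => simp only [map_add, hx, hy]
    | tmul x y => simp [inl, inr]
  have h := DFunLike.congr_fun (congrArg WithConv.ofConv
    ((orb lam _).map_mul (toConv (inl.comp π)) (toConv (inr.comp π)))) a
  have h' : Coalgebra.comul (R := k) (hb lam n (π a)) =
      ((orb lam _ (toConv (inl.comp π)) * orb lam _ (toConv (inr.comp π))).ofConv a).coeff n := by
    rw [← h, orb_coeff, hb_mk]
    exact (hP _).symm
  rw [h', AlgHom.convMul_apply]
  generalize Coalgebra.comul (R := k) a = t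
  induction t using TensorProduct.induction_on with
  | zero => simp
  | add x y hx hy => simp only [map_add, AddMonoidAlgebra.coeff_add, Finsupp.add_apply, hx, hy, add_zero]
  | tmul x y =>
    rw [Algebra.TensorProduct.lift_tmul, orb_apply, orb_apply]
    show TensorProduct.map (hb lam i) (hb lam d)
      ((mapL (inl.comp π) (univ lam x) * mapL (inr.comp π) (univ lam y)).coeff n) = 0
    rw [← AddMonoidAlgebra.sum_coeff_single (univ lam x), ← AddMonoidAlgebra.sum_coeff_single (univ lam y),
      Finsupp.sum, Finsupp.sum, map_sum, map_sum, Finset.sum_mul_sum]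
    simp only [mapL_single, AddMonoidAlgebra.single_mul_single, AddMonoidAlgebra.coeff_sum,
      Finsupp.finsetSum_apply, map_sum]
    refine Finset.sum_eq_zero fun p _ => Finset.sum_eq_zero fun q _ => ?_
    rw [coeff_single]
    split_ifs with hpq
    · show TensorProduct.map (hb lam i) (hb lam d)
        ((π (comp lam p x) ⊗ₜ[k] (1 : B)) * ((1 : B) ⊗ₜ[k] π (comp lam q y))) = 0
      rw [Algebra.TensorProduct.tmul_mul_tmul, mul_one, one_mul, TensorProduct.map_tmul, ← hb_mk, ← hb_mk,
        hb_hb, hb_hb]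
      by_cases hip : i = p
      · have hdq : d ≠ q := by omega
        rw [if_neg hdq, TensorProduct.tmul_zero]
      · rw [if_neg hip, TensorProduct.zero_tmul]
    · exact map_zero _

/-- On degrees at most `M`, the top-degree part of the comultiplication is trivial. -/
theorem comul_top {M n : ℤ} (hn : n ≤ M) (b : B) :
    (hb lam M).lTensor B (Coalgebra.comul (R := k) (hb lam n b)) = (1 : B) ⊗ₜ[k] hb lam M (hb lam n b) := by
  refine sub_eq_zero.1 (eq_zero_of_degrees (hb lam) (hb_degrees lam) _ fun i => ?_)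
  rw [map_sub, LinearMap.rTensor_tmul, ← LinearMap.comp_apply, LinearMap.rTensor_comp_lTensor]
  rcases lt_trichotomy i 0 with hi | rfl | hi
  · rw [show hb lam i = 0 from LinearMap.ext (hb_neg lam hi), TensorProduct.map_zero_left, LinearMap.zero_apply,
      LinearMap.zero_apply, TensorProduct.zero_tmul, sub_zero]
  · have h0 : hb lam 0 = (Algebra.linearMap k B).comp (Coalgebra.counit (R := k) (A := B)) :=
      LinearMap.ext (hb_zero lam)
    rw [sub_eq_zero, h0, ← LinearMap.lTensor_comp_rTensor, LinearMap.comp_apply, LinearMap.rTensor_comp,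
      LinearMap.comp_apply, Coalgebra.rTensor_counit_comul, LinearMap.rTensor_tmul, LinearMap.lTensor_tmul,
      LinearMap.comp_apply, Bialgebra.counit_one, Algebra.linearMap_apply, map_one]
  · rw [comul_graded lam (by omega) b, hb_hb, zero_sub, neg_eq_zero]
    by_cases hM : M = n
    · have h1 : hb lam i (1 : B) = 0 := by
        rw [← map_one (Ideal.Quotient.mkₐ k (Ju lam)), hb_mk, comp_apply, map_one, AddMonoidAlgebra.one_def,
          coeff_single, if_neg (by omega), map_zero]
      rw [h1, TensorProduct.zero_tmul]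
    · rw [if_neg hM, TensorProduct.tmul_zero]

theorem isUnipotent_Ju : HopfRep.IsUnipotent k B := by
  classical
  intro V _ _ _ _ _ hfix
  set ρ : V →ₗ[k] V ⊗[k] B := HopfRep.Comod.coact (k := k) (A := B) with hρ
  have hinj : Function.Injective ρ := by
    intro v w e
    have hv := LinearMap.congr_fun (HopfRep.Comod.counit_comp (k := k) (A := B) (V := V))
    have := congrArg ((Coalgebra.counit (R := k) (A := B)).lTensor V) e
    rw [← LinearMap.comp_apply, ← LinearMap.comp_apply, hρ, hv v, hv w] at this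
    simpa using congrArg (TensorProduct.rid k V) this
  obtain ⟨G, hG⟩ := Module.Finite.fg_top (R := k) (M := V)
  choose s hs using fun v => exists_degrees (hb lam) (hb_degrees lam) (ρ v)
  have hT : ∀ n ∉ G.biUnion s, ∀ v, (hb lam n).lTensor V (ρ v) = 0 := by
    intro n hn
    suffices h : ((hb lam n).lTensor V).comp ρ = 0 from fun v => LinearMap.congr_fun h v
    exact LinearMap.ext_on hG fun v hv => (hs v).1 n fun h => hn (Finset.mem_biUnion.2 ⟨v, hv, h⟩)
  let D := (G.biUnion s).filter fun n => ∃ v, (hb lam n).lTensor V (ρ v) ≠ 0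
  obtain ⟨v₁, hv₁⟩ := exists_ne (0 : V)
  have hD : D.Nonempty := by
    by_contra he
    refine hv₁ (hinj ?_)
    rw [map_zero, ← (hs v₁).2]
    refine Finset.sum_eq_zero fun n _ => ?_
    by_contra hne
    exact he ⟨n, Finset.mem_filter.2 ⟨by_contra fun h => hne (hT n h v₁), v₁, hne⟩⟩
  obtain ⟨-, v, hv⟩ := Finset.mem_filter.1 (D.max'_mem hD)
  generalize hM : D.max' hD = M at hv
  have habove : ∀ n, M < n → ∀ w, (hb lam n).lTensor V (ρ w) = 0 := by
    intro n hn w
    by_contra hne
    exact absurd (Finset.le_max' D n (Finset.mem_filter.2 ⟨by_contra fun h => hne (hT n h w), w, hne⟩))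
      (by omega)
  set y := (hb lam M).lTensor V (ρ v) with hy
  let ι : V →ₗ[k] V ⊗[k] B := (TensorProduct.mk k V B).flip 1
  have hker : LinearMap.ker (ρ - ι) = ⊥ := by
    refine eq_bot_iff.2 fun w hw => ?_
    rw [LinearMap.mem_ker, LinearMap.sub_apply, sub_eq_zero] at hw
    have : w ∈ HopfRep.fixedPts k B V := hw
    rwa [hfix] at this
  refine hv (Module.Flat.rTensor_preserves_injective_linearMap (M := B) (ρ - ι)
    (LinearMap.ker_eq_bot.1 hker) ?_)
  rw [map_zero, LinearMap.rTensor_sub, LinearMap.sub_apply, sub_eq_zero]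
  refine (TensorProduct.assoc k V B B).injective ?_
  have h1 : TensorProduct.assoc k V B B (ρ.rTensor B y) =
      (((hb lam M).lTensor B).comp (Coalgebra.comul (R := k) (A := B))).lTensor V (ρ v) := by
    have hco := LinearMap.congr_fun (HopfRep.Comod.coassoc (k := k) (A := B) (V := V)) v
    rw [LinearMap.lTensor_comp, LinearMap.comp_apply]
    refine Eq.trans ?_ (congrArg (((hb lam M).lTensor B).lTensor V) hco)
    rw [hy]
    show _ = ((hb lam M).lTensor B).lTensor V (TensorProduct.assoc k V B B (ρ.rTensor B (ρ v)))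
    generalize ρ v = x
    induction x using TensorProduct.induction_on with
    | zero => simp
    | add p q hp hq => simp only [map_add, hp, hq]
    | tmul p q =>
      rw [LinearMap.lTensor_tmul, LinearMap.rTensor_tmul, LinearMap.rTensor_tmul]
      generalize ρ p = z
      induction z using TensorProduct.induction_on with
      | zero => simp
      | add p q hp hq => simp only [TensorProduct.add_tmul, map_add, hp, hq]
      | tmul p r => simp
  have h2 : TensorProduct.assoc k V B B (ι.rTensor B y) =
      ((TensorProduct.mk k B B 1).comp (hb lam M)).lTensor V (ρ v) := by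
    rw [hy]
    generalize ρ v = x
    induction x using TensorProduct.induction_on with
    | zero => simp
    | add p q hp hq => simp only [map_add, hp, hq]
    | tmul p q => simp [ι]
  rw [h1, h2, ← sub_eq_zero]
  set K := ((hb lam M).lTensor B).comp (Coalgebra.comul (R := k) (A := B)) with hK
  set C' := (TensorProduct.mk k B B 1).comp (hb lam M) with hC
  conv_lhs => rw [← (hs v).2, map_sum, map_sum]
  rw [← Finset.sum_sub_distrib]
  refine Finset.sum_eq_zero fun n _ => ?_
  rcases le_or_gt n M with hn | hn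
  · rw [← LinearMap.lTensor_comp_apply, ← LinearMap.lTensor_comp_apply,
      show K.comp (hb lam n) = C'.comp (hb lam n) from LinearMap.ext (comul_top lam hn), sub_self]
  · rw [habove n hn v, map_zero, map_zero, sub_self]

end Grading

end Groth.Agent.Dyn50
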