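import Groth.Agent.Dyn50.SmoothCell
import Groth.Agent.Dyn50.Unip
import Groth.Agent.Dyn50.GL

/-! Decompositions lift for closed subgroups of smooth groups. -/

set_option autoImplicit false
set_option linter.unusedSectionVars false

universe u

open LaurentPolynomial TensorProduct WithConv

namespace Groth.Agent.Dyn50

section General

variable {k : Type u} [CommRing k] {A : Type u} [CommRing A] [HopfAlgebra k A] (lam : A →ₐc[k] k[T;T⁻¹])

theorem comp_comp_apply (m n : ℤ) (a : A) : comp lam m (comp lam n a) = if m = n then comp lam n a else 0 := by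
  rw [comp_apply lam m, univ_comp, coeff_single]

theorem counit_comp_zero (a : A) : Coalgebra.counit (R := k) (comp lam 0 a) = Coalgebra.counit (R := k) a := by
  have h' := orb_coeff lam (1 : WithConv (A →ₐ[k] k)) a 0
  rw [map_one] at h'
  have h'' : ((algebraMap k k[T;T⁻¹]) (Coalgebra.counit (R := k) a)).coeff 0 =
      Coalgebra.counit (R := k) (comp lam 0 a) := h'
  rw [← C_eq_algebraMap, ← single_eq_C, coeff_single, if_pos rfl] at h''
  exact h''.symm

theorem comp_degrees (a : A) : ∃ s : Finset ℤ, (∀ n ∉ s, comp lam n a = 0) ∧ ∑ n ∈ s, comp lam n a = a := by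
  classical
  refine ⟨(univ lam a).coeff.support, fun n hn => Finsupp.notMem_support_iff.1 hn, ?_⟩
  have h1 := DFunLike.congr_fun (congrArg WithConv.ofConv (ev1_orb lam (toConv (AlgHom.id k A)))) a
  refine Eq.trans ?_ h1
  show _ = ev1 (k := k) (univ lam a)
  conv_rhs => rw [← AddMonoidAlgebra.sum_coeff_single (univ lam a), Finsupp.sum, map_sum]
  exact Finset.sum_congr rfl fun n _ => (ev1_single (k := k) n _).symm

/-- The comultiplication respects the grading. -/
theorem comul_comp {i d n : ℤ} (hn : n ≠ i + d) (a : A) :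
    TensorProduct.map (comp lam i) (comp lam d) (Coalgebra.comul (R := k) (comp lam n a)) = 0 := by
  classical
  let inl : A →ₐ[k] A ⊗[k] A := Algebra.TensorProduct.includeLeft
  let inr : A →ₐ[k] A ⊗[k] A := Algebra.TensorProduct.includeRight
  have hP : ∀ x : A, (toConv inl * toConv inr).ofConv x = Coalgebra.comul (R := k) x := by
    intro x
    rw [AlgHom.convMul_apply]
    generalize Coalgebra.comul (R := k) x = t
    induction t using TensorProduct.induction_on with
    | zero => simp
    | add x y hx hy => simp only [map_add, hx, hy]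
    | tmul x y => simp [inl, inr]
  have h := DFunLike.congr_fun (congrArg WithConv.ofConv ((orb lam _).map_mul (toConv inl) (toConv inr))) a
  have h' : Coalgebra.comul (R := k) (comp lam n a) =
      ((orb lam _ (toConv inl) * orb lam _ (toConv inr)).ofConv a).coeff n := by
    rw [← h, orb_coeff]
    exact (hP _).symm
  rw [h', AlgHom.convMul_apply]
  generalize Coalgebra.comul (R := k) a = t
  induction t using TensorProduct.induction_on with
  | zero => simp
  | add x y hx hy => simp only [map_add, AddMonoidAlgebra.coeff_add, Finsupp.add_apply, hx, hy, add_zero]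
  | tmul x y =>
    rw [Algebra.TensorProduct.lift_tmul, orb_apply, orb_apply]
    show TensorProduct.map (comp lam i) (comp lam d)
      ((mapL inl (univ lam x) * mapL inr (univ lam y)).coeff n) = 0
    rw [← AddMonoidAlgebra.sum_coeff_single (univ lam x), ← AddMonoidAlgebra.sum_coeff_single (univ lam y),
      Finsupp.sum, Finsupp.sum, map_sum, map_sum, Finset.sum_mul_sum]
    simp only [mapL_single, AddMonoidAlgebra.single_mul_single, AddMonoidAlgebra.coeff_sum,
      Finsupp.finsetSum_apply, map_sum]
    refine Finset.sum_eq_zero fun p _ => Finset.sum_eq_zero fun q _ => ?_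
    rw [coeff_single]
    split_ifs with hpq
    · show TensorProduct.map (comp lam i) (comp lam d)
        ((comp lam p x ⊗ₜ[k] (1 : A)) * ((1 : A) ⊗ₜ[k] comp lam q y)) = 0
      rw [Algebra.TensorProduct.tmul_mul_tmul, mul_one, one_mul, TensorProduct.map_tmul, comp_comp_apply,
        comp_comp_apply]
      by_cases hip : i = p
      · rw [if_neg (show d ≠ q by omega), TensorProduct.tmul_zero]
      · rw [if_neg hip, TensorProduct.zero_tmul]
    · exact map_zero _

variable {R : Type u} [CommRing R] [Algebra k R]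

/-- Right translation. -/
noncomputable def rt (y : WithConv (A →ₐ[k] R)) : A ⊗[k] R →ₐ[k] A ⊗[k] R :=
  Algebra.TensorProduct.lift
    (toConv (Algebra.TensorProduct.includeLeft : A →ₐ[k] A ⊗[k] R) *
      push Algebra.TensorProduct.includeRight y).ofConv
    Algebra.TensorProduct.includeRight (fun _ _ => Commute.all _ _)

theorem rt_tmul (y : WithConv (A →ₐ[k] R)) (a : A) (r : R) :
    rt y (a ⊗ₜ[k] r) = TensorProduct.map LinearMap.id y.ofConv.toLinearMap (Coalgebra.comul (R := k) a) *
      ((1 : A) ⊗ₜ[k] r) := by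
  rw [rt, Algebra.TensorProduct.lift_tmul, AlgHom.convMul_apply]
  congr 1
  generalize Coalgebra.comul (R := k) a = t
  induction t using TensorProduct.induction_on with
  | zero => simp
  | add x z hx hz => simp only [map_add, hx, hz]
  | tmul x z => simp [push_apply]

theorem rt_rt (y z : WithConv (A →ₐ[k] R)) : (rt y).comp (rt z) = rt (y * z) := by
  refine Algebra.TensorProduct.ext ?_ ?_
  · have hl : ∀ w : WithConv (A →ₐ[k] R), (rt w).comp Algebra.TensorProduct.includeLeft =
        (toConv (Algebra.TensorProduct.includeLeft : A →ₐ[k] A ⊗[k] R) *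
          push Algebra.TensorProduct.includeRight w).ofConv := fun w => by
      rw [rt, Algebra.TensorProduct.lift_comp_includeLeft]
    rw [AlgHom.comp_assoc, hl z, hl (y * z), AlgHom.comp_convMul_distrib, map_mul, ← mul_assoc]
    congr 1
    congr 1
    · exact WithConv.ofConv_injective (hl y)
    · refine WithConv.ofConv_injective (AlgHom.ext fun a => ?_)
      simp [rt, push_apply]
  · ext r
    simp [rt]

/-- The projection to a degree. -/
noncomputable def proj (i : ℤ) : A ⊗[k] R →ₗ[k] A ⊗[k] R := (comp lam i).rTensor R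

theorem proj_rt (y : WithConv (A →ₐ[k] R)) (i n : ℤ) (a : A) :
    proj lam i (rt y (comp lam n a ⊗ₜ[k] (1 : R))) =
      TensorProduct.map (comp lam i) (y.ofConv.toLinearMap.comp (comp lam (n - i)))
        (Coalgebra.comul (R := k) (comp lam n a)) := by
  classical
  rw [rt_tmul, show ((1 : A) ⊗ₜ[k] (1 : R)) = 1 from rfl, mul_one, proj, ← LinearMap.comp_apply, LinearMap.rTensor_comp_map, LinearMap.comp_id]
  obtain ⟨s, hs1, hs2⟩ := exists_degrees (comp lam) (comp_degrees lam)
    ((comp lam i).rTensor A (Coalgebra.comul (R := k) (comp lam n a)))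
  have h0 : ∀ d, d ≠ n - i →
      (comp lam d).lTensor A ((comp lam i).rTensor A (Coalgebra.comul (R := k) (comp lam n a))) = 0 := by
    intro d hd
    rw [← LinearMap.comp_apply, LinearMap.lTensor_comp_rTensor]
    exact comul_comp lam (by omega) a
  have h1 : (comp lam (n - i)).lTensor A ((comp lam i).rTensor A (Coalgebra.comul (R := k) (comp lam n a))) =
      (comp lam i).rTensor A (Coalgebra.comul (R := k) (comp lam n a)) := by
    by_cases hm : n - i ∈ s
    · rw [Finset.sum_eq_single (n - i) (fun d _ hd => h0 d hd) (fun h => absurd hm h)] at hs2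
      exact hs2
    · rw [hs1 _ hm, ← hs2]
      exact (Finset.sum_eq_zero fun d hd => h0 d (fun h => hm (h ▸ hd))).symm
  rw [show TensorProduct.map (comp lam i) (y.ofConv.toLinearMap.comp (comp lam (n - i))) =
    (y.ofConv.toLinearMap.lTensor A).comp (((comp lam (n - i)).lTensor A).comp ((comp lam i).rTensor A)) by
      rw [LinearMap.lTensor_comp_rTensor, LinearMap.lTensor_comp_map]]
  simp only [LinearMap.comp_apply, h1]
  rw [← LinearMap.comp_apply (LinearMap.lTensor A y.ofConv.toLinearMap) (LinearMap.rTensor A (comp lam i)), LinearMap.lTensor_comp_rTensor]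

end General

section Embedding

variable {k : Type u} [Field k] {A : Type u} [CommRing A] [HopfAlgebra k A]
  {H : Type u} [CommRing H] [HopfAlgebra k H] (π : H →ₐc[k] A) (hπ : Function.Surjective π)
  (lam : A →ₐc[k] k[T;T⁻¹])

/-- Points of the subgroup as points of the ambient group. -/
noncomputable def pull (R : Type u) [CommRing R] [Algebra k R] :
    WithConv (A →ₐ[k] R) →* WithConv (H →ₐ[k] R) where
  toFun f := toConv (f.ofConv.comp (π : H →ₐ[k] A))
  map_one' := WithConv.ofConv_injective (AlgHom.ext fun a => by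
    show algebraMap k R (Coalgebra.counit (R := k) (π a)) = algebraMap k R (Coalgebra.counit (R := k) a)
    rw [CoalgHomClass.counit_comp_apply])
  map_mul' f g := WithConv.ofConv_injective (AlgHom.convMul_comp_bialgHom_distrib f g π)

variable {R : Type u} [CommRing R] [Algebra k R]

theorem pull_apply (g : WithConv (A →ₐ[k] R)) (f : H) : (pull π R g).ofConv f = g.ofConv (π f) := rfl

theorem orb_pull (g : WithConv (A →ₐ[k] R)) : orb (lam.comp π) R (pull π R g) = pull π R[T;T⁻¹] (orb lam R g) := by
  rw [orb_def, orb_def, map_mul, map_mul, map_inv]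
  rfl

theorem pi_comp (n : ℤ) (f : H) : π (comp (lam.comp π) n f) = comp lam n (π f) := by
  have h := orb_coeff (lam.comp π) (pull π A (toConv (AlgHom.id k A))) f n
  rw [orb_pull, pull_apply, orb_coeff] at h
  exact h.symm

include hπ in
theorem mem_Plim_pull {g : WithConv (A →ₐ[k] R)} : pull π R g ∈ Plim (lam.comp π) R ↔ g ∈ Plim lam R := by
  rw [mem_Plim_iff, mem_Plim_iff]
  simp only [pull_apply, pi_comp π lam]
  constructor
  · intro h n hn a
    obtain ⟨f, rfl⟩ := hπ a
    exact h n hn f
  · exact fun h n hn f => h n hn (π f)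

include hπ in
theorem mem_Ulim_pull {g : WithConv (A →ₐ[k] R)} : pull π R g ∈ Ulim (lam.comp π) R ↔ g ∈ Ulim lam R := by
  rw [mem_Ulim_iff, mem_Ulim_iff]
  simp only [pull_apply, pi_comp π lam, ← CoalgHomClass.counit_comp_apply π]
  constructor
  · rintro ⟨h, h'⟩
    refine ⟨fun n hn a => ?_, fun a => ?_⟩
    · obtain ⟨f, rfl⟩ := hπ a; exact h n hn f
    · obtain ⟨f, rfl⟩ := hπ a; exact h' f
  · rintro ⟨h, h'⟩
    exact ⟨fun n hn f => h n hn (π f), fun f => h' (π f)⟩

theorem negParam_comp {lamNeg : A →ₐc[k] k[T;T⁻¹]} (hneg : (lamNeg : A →ₐ[k] k[T;T⁻¹]) = Dyn.negParam k A lam) :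
    ((lamNeg.comp π : H →ₐc[k] k[T;T⁻¹]) : H →ₐ[k] k[T;T⁻¹]) = Dyn.negParam k H (lam.comp π) :=
  AlgHom.ext fun f => DFunLike.congr_fun hneg (π f)

include hπ in
theorem exists_factor (u : WithConv (H →ₐ[k] R)) (hu : ∀ f, π f = 0 → u.ofConv f = 0) :
    ∃ u', pull π R u' = u := by
  have hle : RingHom.ker (π : H →ₐ[k] A).toRingHom ≤ RingHom.ker u.ofConv.toRingHom := fun f hf => hu f hf
  refine ⟨toConv (AlgHom.liftOfSurjective (π : H →ₐ[k] A) hπ u.ofConv hle), ?_⟩
  exact WithConv.ofConv_injective (AlgHom.ext fun f =>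
    AlgHom.liftOfSurjective_apply (π : H →ₐ[k] A) hπ u.ofConv hle f)

include hπ in
/-- The key computation: the lower factor of a point of the subgroup lies in the subgroup. -/
theorem lower_factor {lamNeg : A →ₐc[k] k[T;T⁻¹]} (hneg : (lamNeg : A →ₐ[k] k[T;T⁻¹]) = Dyn.negParam k A lam)
    {S : Type u} [CommRing S] [Algebra k S] {I : Ideal S} (hI : ∀ a ∈ I, ∀ b ∈ I, a * b = 0)
    (g : WithConv (A →ₐ[k] S)) (ub pb : WithConv (A →ₐ[k] S ⧸ I)) (hub : ub ∈ Ulim lamNeg (S ⧸ I))
    (hpb : pb ∈ Plim lam (S ⧸ I)) (hgb : push (Ideal.Quotient.mkₐ k I) g = ub * pb)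
    (v : WithConv (H →ₐ[k] S)) (hv : v ∈ Ulim (lamNeg.comp π) S)
    (hvb : push (Ideal.Quotient.mkₐ k I) v = pull π _ ub⁻¹) (hvg : v * pull π S g ∈ Plim (lam.comp π) S) :
    ∀ f, π f = 0 → v.ofConv f = 0 := by
  classical
  let q := Ideal.Quotient.mkₐ k I
  let K : Submodule k H := LinearMap.ker (π : H →ₐ[k] A).toLinearMap
  have hvI : ∀ f ∈ K, v.ofConv f ∈ I := by
    intro f hf
    refine Ideal.Quotient.eq_zero_iff_mem.1 ?_
    have h1 := DFunLike.congr_fun (congrArg WithConv.ofConv hvb) f
    rw [pull_apply, show π f = 0 from hf, map_zero] at h1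
    exact h1
  obtain ⟨al, hal⟩ := LinearMap.exists_extend
    (LinearMap.codRestrict (I.restrictScalars k) (v.ofConv.toLinearMap.comp K.subtype) fun f => hvI f f.2)
  have hal' : ∀ f ∈ K, (al f : S) = v.ofConv f := fun f hf =>
    congrArg Subtype.val (LinearMap.congr_fun hal ⟨f, hf⟩)
  obtain ⟨sec, hsec⟩ := LinearMap.exists_rightInverse_of_surjective (q.toLinearMap)
    (LinearMap.range_eq_top.2 Ideal.Quotient.mk_surjective)
  have hsec' : ∀ s, q (sec s) = s := fun s => LinearMap.congr_fun hsec s
  have hIcancel : ∀ x ∈ I, ∀ s t : S, q s = q t → x * s = x * t := by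
    intro x hx s t hst
    have := hI x hx (s - t) (Ideal.Quotient.eq.1 hst)
    rwa [mul_sub, sub_eq_zero] at this
  let E : H ⊗[k] (S ⧸ I) →ₗ[k] S :=
    TensorProduct.lift ((LinearMap.mul k S).compl₂ sec ∘ₗ (I.restrictScalars k).subtype ∘ₗ al)
  have hE : ∀ h s, E (h ⊗ₜ[k] s) = (al h : S) * sec s := fun h s => rfl
  have hEmul : ∀ (t : H ⊗[k] (S ⧸ I)) (s : S ⧸ I), E (t * ((1 : H) ⊗ₜ[k] s)) = E t * sec s := by
    intro t s
    induction t using TensorProduct.induction_on with
    | zero => simp
    | add x y hx hy => simp only [add_mul, map_add, hx, hy]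
    | tmul h r =>
      rw [Algebra.TensorProduct.tmul_mul_tmul, mul_one, hE, hE, mul_assoc]
      exact hIcancel _ (al h).2 _ _ (by rw [hsec', map_mul, hsec', hsec'])
  let gb : WithConv (H →ₐ[k] S ⧸ I) := pull π _ (push q g)
  -- the value at `f` of the product, through the translation
  have hkey : ∀ f ∈ K, E (rt gb (f ⊗ₜ[k] 1)) = (v * pull π S g).ofConv f := by
    intro f hf
    rw [rt_tmul, show ((1 : H) ⊗ₜ[k] (1 : S ⧸ I)) = 1 from rfl, mul_one, AlgHom.convMul_apply]
    have hsplit : TensorProduct.map (π : H →ₐ[k] A).toLinearMap (π : H →ₐ[k] A).toLinearMap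
        (Coalgebra.comul (R := k) f) = 0 := by
      show TensorProduct.map π.toLinearMap π.toLinearMap (Coalgebra.comul (R := k) f) = 0
      rw [show TensorProduct.map π.toLinearMap π.toLinearMap (Coalgebra.comul (R := k) f) =
        Coalgebra.comul (R := k) (π f) from CoalgHomClass.map_comp_comul_apply π f, show π f = 0 from hf, map_zero]
    obtain ⟨τ, hτ⟩ := LinearMap.exists_rightInverse_of_surjective (π : H →ₐ[k] A).toLinearMap
      (LinearMap.range_eq_top.2 hπ)
    have hτ' : ∀ a, π (τ a) = a := fun a => LinearMap.congr_fun hτ a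
    let c : H →ₗ[k] H := τ ∘ₗ (π : H →ₐ[k] A).toLinearMap
    have hc : ∀ x, x - c x ∈ K := fun x => by
      show (π : H →ₐ[k] A).toLinearMap (x - τ (π x)) = 0
      rw [map_sub]
      exact sub_eq_zero.2 (hτ' (π x)).symm
    have hz : TensorProduct.map c c (Coalgebra.comul (R := k) f) = 0 := by
      rw [show TensorProduct.map c c = (TensorProduct.map τ τ).comp
        (TensorProduct.map (π : H →ₐ[k] A).toLinearMap (π : H →ₐ[k] A).toLinearMap) from
          TensorProduct.map_comp τ τ _ _, LinearMap.comp_apply, hsplit, map_zero]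
    have key : ∀ t : H ⊗[k] H,
        E (TensorProduct.map LinearMap.id gb.ofConv.toLinearMap (t - TensorProduct.map c c t)) =
        Algebra.TensorProduct.lift v.ofConv (pull π S g).ofConv (fun _ _ => Commute.all _ _)
          (t - TensorProduct.map c c t) := by
      intro t
      induction t using TensorProduct.induction_on with
      | zero => simp
      | add x y hx hy =>
        rw [map_add, add_sub_add_comm, map_add, map_add, map_add, hx, hy]
      | tmul x y =>
        rw [TensorProduct.map_tmul, show x ⊗ₜ[k] y - c x ⊗ₜ[k] c y = (x - c x) ⊗ₜ[k] y + c x ⊗ₜ[k] (y - c y) by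
          rw [TensorProduct.sub_tmul, TensorProduct.tmul_sub]; abel, map_add, map_add, map_add,
          TensorProduct.map_tmul, TensorProduct.map_tmul, Algebra.TensorProduct.lift_tmul,
          Algebra.TensorProduct.lift_tmul, hE, hE]
        have h2 : π (y - c y) = 0 := hc y
        simp only [LinearMap.id_apply, AlgHom.toLinearMap_apply]
        rw [show gb.ofConv (y - c y) = 0 by rw [pull_apply, h2, map_zero],
          show (pull π S g).ofConv (y - c y) = 0 by rw [pull_apply, h2, map_zero], map_zero, mul_zero, mul_zero,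
          hal' _ (hc x), add_zero, add_zero]
        exact hIcancel _ (hvI _ (hc x)) _ _ (by rw [hsec']; rfl)
    have := key (Coalgebra.comul (R := k) f)
    rwa [hz, sub_zero] at this
  -- the projections preserve the kernel
  let J := LinearMap.ker ((π : H →ₐ[k] A).toLinearMap.rTensor (S ⧸ I))
  have hJ : ∀ x ∈ J, ∃ z : K ⊗[k] (S ⧸ I), K.subtype.rTensor _ z = x := fun x hx => by
    have he : Function.Exact (K.subtype.rTensor (S ⧸ I)) ((π : H →ₐ[k] A).toLinearMap.rTensor (S ⧸ I)) :=
      rTensor_exact (S ⧸ I) (LinearMap.exact_subtype_ker_map (π : H →ₐ[k] A).toLinearMap) hπ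
    exact (he x).1 hx
  have hJrt : ∀ (y : WithConv (A →ₐ[k] S ⧸ I)) (x), x ∈ J → rt (pull π _ y) x ∈ J := by
    intro y x hx
    have hh : (Algebra.TensorProduct.map (π : H →ₐ[k] A) (AlgHom.id k (S ⧸ I))).comp (rt (pull π _ y)) =
        (rt y).comp (Algebra.TensorProduct.map (π : H →ₐ[k] A) (AlgHom.id k (S ⧸ I))) := by
      refine Algebra.TensorProduct.ext ?_ ?_
      · refine AlgHom.ext fun f => ?_
        show Algebra.TensorProduct.map _ _ (rt (pull π _ y) (f ⊗ₜ[k] 1)) = rt y ((π f) ⊗ₜ[k] 1)
        rw [rt_tmul, rt_tmul, map_mul, Algebra.TensorProduct.map_tmul, map_one (π : H →ₐ[k] A),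
          show Coalgebra.comul (R := k) (π f) = TensorProduct.map π.toLinearMap π.toLinearMap
            (Coalgebra.comul (R := k) f) from (CoalgHomClass.map_comp_comul_apply π f).symm]
        congr 1
        generalize Coalgebra.comul (R := k) f = t
        induction t using TensorProduct.induction_on with
        | zero => simp
        | add a b ha hb => simp only [map_add, ha, hb]
        | tmul a b => rfl
      · ext r
        simp [rt]
    show ((π : H →ₐ[k] A).toLinearMap.rTensor (S ⧸ I)) (rt (pull π _ y) x) = 0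
    have h1 := DFunLike.congr_fun hh x
    refine h1.trans ?_
    show rt y (((π : H →ₐ[k] A).toLinearMap.rTensor (S ⧸ I)) x) = 0
    rw [show ((π : H →ₐ[k] A).toLinearMap.rTensor (S ⧸ I)) x = 0 from hx, map_zero]
  have hKcomp : ∀ (i : ℤ), ∀ f ∈ K, comp (lam.comp π) i f ∈ K := by
    intro i f hf
    show π (comp (lam.comp π) i f) = 0
    rw [pi_comp, show π f = 0 from hf, map_zero]
  -- values on a degree vanish as soon as the values of `v` do
  have hEproj : ∀ i, (∀ f ∈ K, v.ofConv (comp (lam.comp π) i f) = 0) → ∀ x ∈ J, E (proj (lam.comp π) i x) = 0 := by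
    intro i hi x hx
    obtain ⟨z, rfl⟩ := hJ x hx
    induction z using TensorProduct.induction_on with
    | zero => simp
    | add a b ha hb =>
      simp only [map_add]
      rw [ha (by show _ = 0; rw [← LinearMap.comp_apply, ← LinearMap.rTensor_comp]; simp [K, J, LinearMap.comp_ker_subtype]),
        hb (by show _ = 0; rw [← LinearMap.comp_apply, ← LinearMap.rTensor_comp]; simp [K, J, LinearMap.comp_ker_subtype]),
        add_zero]
    | tmul f s =>
      show E (comp (lam.comp π) i f ⊗ₜ[k] s) = 0
      rw [hE, hal' _ (hKcomp i f f.2), hi f f.2, zero_mul]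
  -- on negative degrees the translate is killed
  have hneg' : ∀ i < 0, ∀ x ∈ J, E (rt gb (proj (lam.comp π) i x)) = 0 := by
    intro i hi x hx
    obtain ⟨z, rfl⟩ := hJ x hx
    induction z using TensorProduct.induction_on with
    | zero => simp
    | add a b ha hb =>
      simp only [map_add]
      rw [ha (by show _ = 0; rw [← LinearMap.comp_apply, ← LinearMap.rTensor_comp]; simp [K, J, LinearMap.comp_ker_subtype]),
        hb (by show _ = 0; rw [← LinearMap.comp_apply, ← LinearMap.rTensor_comp]; simp [K, J, LinearMap.comp_ker_subtype]),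
        add_zero]
    | tmul f s =>
      show E (rt gb (comp (lam.comp π) i f ⊗ₜ[k] s)) = 0
      rw [show comp (lam.comp π) i f ⊗ₜ[k] s = comp (lam.comp π) i (f : H) ⊗ₜ[k] (1 : S ⧸ I) * ((1 : H) ⊗ₜ[k] s) by
        rw [Algebra.TensorProduct.tmul_mul_tmul, mul_one, one_mul], map_mul,
        show rt gb ((1 : H) ⊗ₜ[k] s) = (1 : H) ⊗ₜ[k] s by simp [rt], hEmul, hkey _ (hKcomp i f f.2),
        (mem_Plim_iff _ _).1 hvg i hi f, zero_mul]
  -- descending induction
  have main : ∀ n, ∀ f ∈ K, v.ofConv (comp (lam.comp π) n f) = 0 := by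
    suffices h : ∀ N : ℕ, ∀ n : ℤ, -(N : ℤ) ≤ n → ∀ f ∈ K, v.ofConv (comp (lam.comp π) n f) = 0 from
      fun n => h n.natAbs n (by omega)
    intro N
    induction N with
    | zero =>
      intro n hn f hf
      rw [mem_Ulim_iff] at hv
      rcases eq_or_lt_of_le (show (0 : ℤ) ≤ n by omega) with rfl | hn'
      · have h1 := hv.2 f
        rw [comp_neg (lam.comp π) (negParam_comp π lam hneg), neg_zero] at h1
        rw [h1, ← CoalgHomClass.counit_comp_apply π, show π f = 0 from hf, map_zero, map_zero]
      · have h1 := hv.1 (-n) (by omega) f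
        rwa [comp_neg (lam.comp π) (negParam_comp π lam hneg), neg_neg] at h1
    | succ N ih =>
      intro n hn f hf
      by_cases hn' : -(N : ℤ) ≤ n
      · exact ih n hn' f hf
      replace hn : n = -((N : ℤ) + 1) := by push_cast at hn; omega
      have hbase : comp (lam.comp π) n f ⊗ₜ[k] (1 : S ⧸ I) ∈ J := by
        show π (comp (lam.comp π) n f) ⊗ₜ[k] (1 : S ⧸ I) = 0
        rw [show π (comp (lam.comp π) n f) = 0 from hKcomp n f hf, TensorProduct.zero_tmul]
      let pH := pull π (S ⧸ I) pb⁻¹
      let uH := pull π (S ⧸ I) ub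
      have hpH : pH ∈ Plim (lam.comp π) (S ⧸ I) := (mem_Plim_pull π hπ lam).2 (inv_mem hpb)
      have huH : uH ∈ Ulim (lamNeg.comp π) (S ⧸ I) := (mem_Ulim_pull π hπ lamNeg).2 hub
      set x := rt pH (comp (lam.comp π) n f ⊗ₜ[k] (1 : S ⧸ I)) with hx
      have hxJ : x ∈ J := hJrt pb⁻¹ _ hbase
      have hux : rt gb x = rt uH (comp (lam.comp π) n f ⊗ₜ[k] (1 : S ⧸ I)) := by
        rw [hx, ← AlgHom.comp_apply, rt_rt, show gb * pH = uH by
          show pull π _ (push q g) * pull π _ pb⁻¹ = _
          rw [hgb, ← map_mul, mul_inv_cancel_right]]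
      have decomp : ∀ z : H ⊗[k] (S ⧸ I), ∃ s : Finset ℤ,
          (∀ i ∉ s, proj (lam.comp π) i z = 0) ∧ ∑ i ∈ s, proj (lam.comp π) i z = z := by
        intro z
        induction z using TensorProduct.induction_on with
        | zero => exact ⟨∅, by simp, by simp⟩
        | tmul a r =>
          obtain ⟨s, h1, h2⟩ := comp_degrees (lam.comp π) a
          exact ⟨s, fun i hi => by simp [proj, h1 i hi], by simp [proj, ← TensorProduct.sum_tmul, h2]⟩
        | add y w hy hw =>
          obtain ⟨s, hs1, hs2⟩ := hy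
          obtain ⟨t, ht1, ht2⟩ := hw
          refine ⟨s ∪ t, fun i hi => ?_, ?_⟩
          · rw [Finset.mem_union, not_or] at hi
            rw [map_add, hs1 i hi.1, ht1 i hi.2, add_zero]
          · simp only [map_add, Finset.sum_add_distrib]
            rw [← Finset.sum_subset Finset.subset_union_left (fun i _ hi => hs1 i hi),
              ← Finset.sum_subset Finset.subset_union_right (fun i _ hi => ht1 i hi), hs2, ht2]
      have hzero : E (rt gb x) = 0 := by
        obtain ⟨s, -, hs⟩ := decomp x
        rw [← hs, map_sum, map_sum]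
        refine Finset.sum_eq_zero fun i _ => ?_
        rcases le_or_gt i n with hi | hi
        · exact hneg' i (by omega) x hxJ
        · have : proj (lam.comp π) i x = 0 := by
            rw [hx, proj_rt, show pH.ofConv.toLinearMap.comp (comp (lam.comp π) (n - i)) = 0 from
              LinearMap.ext fun a => (mem_Plim_iff _ _).1 hpH (n - i) (by omega) a, TensorProduct.map_zero_right,
              LinearMap.zero_apply]
          rw [this, map_zero, map_zero]
      rw [hux] at hzero
      obtain ⟨s, hs0, hs⟩ := decomp (rt uH (comp (lam.comp π) n f ⊗ₜ[k] (1 : S ⧸ I)))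
      rw [mem_Ulim_iff] at huH
      have hproj : ∀ i, E (proj (lam.comp π) i (rt uH (comp (lam.comp π) n f ⊗ₜ[k] (1 : S ⧸ I)))) =
          if i = n then v.ofConv (comp (lam.comp π) n f) * sec 1 else 0 := by
        intro i
        rcases lt_trichotomy i n with hi | rfl | hi
        · rw [proj_rt, show uH.ofConv.toLinearMap.comp (comp (lam.comp π) (n - i)) = 0 from
            LinearMap.ext fun a => by
              have h1 := huH.1 (-(n - i)) (by omega) a
              rwa [comp_neg (lam.comp π) (negParam_comp π lam hneg), neg_neg] at h1,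
            TensorProduct.map_zero_right, LinearMap.zero_apply, map_zero, if_neg hi.ne]
        · have hz : uH.ofConv.toLinearMap.comp (comp (lam.comp π) 0) =
              (Algebra.linearMap k (S ⧸ I)).comp (Coalgebra.counit (R := k) (A := H)) := LinearMap.ext fun a => by
            have h1 := huH.2 a
            rwa [comp_neg (lam.comp π) (negParam_comp π lam hneg), neg_zero] at h1
          rw [proj_rt, sub_self, hz, if_pos rfl, ← LinearMap.map_comp_lTensor, LinearMap.comp_apply]
          rw [Coalgebra.lTensor_counit_comul, TensorProduct.map_tmul, comp_comp_apply, if_pos rfl,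
            Algebra.linearMap_apply, map_one, hE, hal' _ (hKcomp _ f hf)]
        · rw [hEproj i (fun a ha => ih i (by omega) a ha) _ (hJrt ub _ hbase), if_neg hi.ne']
      rw [← hs, map_sum, Finset.sum_congr rfl fun i _ => hproj i, Finset.sum_ite_eq'] at hzero
      have h1 : v.ofConv (comp (lam.comp π) n f) * sec 1 = v.ofConv (comp (lam.comp π) n f) := by
        have := hIcancel _ (hvI _ (hKcomp n f hf)) (sec 1) 1 (by rw [hsec', map_one])
        rwa [mul_one] at this
      rw [h1] at hzero
      split_ifs at hzero with hns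
      · exact hzero
      · have := hproj n
        rw [if_pos rfl, h1, hs0 n hns, map_zero] at this
        exact this.symm
  intro f hf
  obtain ⟨s, -, hs⟩ := comp_degrees (lam.comp π) f
  rw [← hs, map_sum]
  exact Finset.sum_eq_zero fun n _ => main n f hf

include hπ in
/-- Decompositions lift for closed subgroups of smooth groups. -/
theorem closed_lift_cell [Algebra.Smooth k H] {lamNeg : A →ₐc[k] k[T;T⁻¹]}
    (hneg : (lamNeg : A →ₐ[k] k[T;T⁻¹]) = Dyn.negParam k A lam) {S : Type u} [CommRing S] [Algebra k S]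
    (I : Ideal S) (hI : ∀ a ∈ I, ∀ b ∈ I, a * b = 0) (g : WithConv (A →ₐ[k] S))
    (ub pb : WithConv (A →ₐ[k] S ⧸ I)) (hu : ub ∈ Ulim lamNeg (S ⧸ I)) (hp : pb ∈ Plim lam (S ⧸ I))
    (h : ub * pb = push (Ideal.Quotient.mkₐ k I) g) : ∃ u ∈ Ulim lamNeg S, ∃ p ∈ Plim lam S, u * p = g := by
  have hpull : push (Ideal.Quotient.mkₐ k I) (pull π S g) = pull π _ (push (Ideal.Quotient.mkₐ k I) g) := rfl
  obtain ⟨u, hu', p, hp', hup⟩ := smooth_lift_cell (lam.comp π) (negParam_comp π lam hneg) I hI (pull π S g)
    (pull π _ ub) (pull π _ pb) ((mem_Ulim_pull π hπ lamNeg).2 hu) ((mem_Plim_pull π hπ lam).2 hp)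
    (by rw [← map_mul, h, hpull])
  have huq : push (Ideal.Quotient.mkₐ k I) u = pull π _ ub := by
    have e : push (Ideal.Quotient.mkₐ k I) u * push (Ideal.Quotient.mkₐ k I) p = pull π _ ub * pull π _ pb := by
      rw [← map_mul, hup, hpull, ← h, map_mul]
    refine (mul_injective (lam.comp π) (negParam_comp π lam hneg) ?_ ((mem_Ulim_pull π hπ lamNeg).2 hu) ?_
      ((mem_Plim_pull π hπ lam).2 hp) e).1
    · rw [mem_Ulim_iff] at hu' ⊢
      refine ⟨fun n hn a => ?_, fun a => ?_⟩
      · rw [push_apply, hu'.1 n hn a, map_zero]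
      · rw [push_apply, hu'.2 a, AlgHom.commutes]
    · rw [mem_Plim_iff] at hp' ⊢
      intro n hn a
      rw [push_apply, hp' n hn a, map_zero]
  obtain ⟨v', hv'⟩ := exists_factor π hπ u⁻¹ (lower_factor π hπ lam hneg hI g ub pb hu hp h.symm u⁻¹
    (inv_mem hu') (by rw [map_inv, huq, map_inv]) (by rw [← hup, inv_mul_cancel_left]; exact hp'))
  have e1 : pull π S v'⁻¹ = u := by rw [map_inv, hv', inv_inv]
  have e2 : pull π S (v' * g) = p := by rw [map_mul, hv', ← hup, inv_mul_cancel_left]
  refine ⟨v'⁻¹, (mem_Ulim_pull π hπ lamNeg).1 (e1 ▸ hu'), v' * g, (mem_Plim_pull π hπ lam).1 (e2 ▸ hp'),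
    inv_mul_cancel_left _ _⟩

end Embedding

end Groth.Agent.Dyn50
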