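import Groth.Agent.Dyn50.Closed
import Groth.Agent.Comod33.MatrixRep
import Groth.Agent.Comod33.Finite

/-! Embedding into the general linear group, and the open big cell over a field. -/

set_option autoImplicit false
set_option linter.unusedSectionVars false

universe u

open TensorProduct Matrix WithConv

namespace Groth.Agent.Dyn50

variable {k : Type u} [Field k] {A : Type u} [CommRing A] [HopfAlgebra k A]

theorem exists_matrix_gens [Algebra.FiniteType k A] :
    ∃ (n : ℕ) (c : Fin n → Fin n → A), Comod33.Mat.IsRep (k := k) c ∧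
      Algebra.adjoin k (Set.range fun p : Fin n × Fin n => c p.1 p.2) = ⊤ := by
  classical
  obtain ⟨s, hs⟩ := ‹Algebra.FiniteType k A›.out
  obtain ⟨W, hfin, hle, hW⟩ := Comod33.exists_finite_subcomod_le (k := k) (A := A) (Submodule.span k (s : Set A))
  letI := ComodSub.Comod.restr (HopfRep.Comod.regular k A) W hW
  let b := Module.finBasis k W
  refine ⟨_, Comod33.Mat.mc (A := A) b, Comod33.Mat.isRep_mc b, ?_⟩
  rw [eq_top_iff, ← hs, Algebra.adjoin_le_iff]
  intro a ha
  have hsub := ComodSub.isComodHom_subtype (HopfRep.Comod.regular k A) W hW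
  have key : ∀ j, (b j : A) = ∑ i, Coalgebra.counit (R := k) (b i : A) • Comod33.Mat.mc (A := A) b i j := by
    intro j
    have h1 := LinearMap.congr_fun hsub (b j)
    simp only [LinearMap.comp_apply] at h1
    rw [Comod33.Mat.coact_basis b j, map_sum] at h1
    have h2 := congrArg (fun t => TensorProduct.lid k A ((Coalgebra.counit (R := k) (A := A)).rTensor A t)) h1
    simp only [map_sum, LinearMap.rTensor_tmul, TensorProduct.lid_tmul] at h2
    have h3 : TensorProduct.lid k A ((Coalgebra.counit (R := k) (A := A)).rTensor A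
        (Coalgebra.comul (R := k) (b j : A))) = (b j : A) := by
      rw [Coalgebra.rTensor_counit_comul, TensorProduct.lid_tmul, one_smul]
    exact h3.symm.trans h2
  have hmem : ∀ w : W, (w : A) ∈ Algebra.adjoin k (Set.range fun p : Fin _ × Fin _ => Comod33.Mat.mc (A := A) b p.1 p.2) := by
    intro w
    rw [← b.sum_repr w, Submodule.coe_sum]
    refine sum_mem fun j _ => ?_
    rw [Submodule.coe_smul, key j]
    exact Subalgebra.smul_mem _ (sum_mem fun i _ =>
      Subalgebra.smul_mem _ (Algebra.subset_adjoin (Set.mem_range.2 ⟨(i, j), rfl⟩)) _) _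
  exact hmem ⟨a, hle (Submodule.subset_span ha)⟩

theorem exists_embedding [Algebra.FiniteType k A] :
    ∃ (n : ℕ) (π : GL.O k (Fin n) →ₐc[k] A), Function.Surjective π := by
  obtain ⟨n, c, hc, hgen⟩ := exists_matrix_gens (k := k) (A := A)
  have hunit : IsUnit (Comod33.Mat.ev (AlgHom.id k A) c).det := by
    have h := Comod33.Mat.ev_mul hc (AlgHom.id k A) (HopfAlgebra.antipodeAlgHom k A)
    rw [show (toConv (AlgHom.id k A) * toConv (HopfAlgebra.antipodeAlgHom k A)).ofConv =
      (1 : WithConv (A →ₐ[k] A)).ofConv from congrArg WithConv.ofConv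
        (mul_inv_cancel (toConv (AlgHom.id k A))), Comod33.Mat.ev_one hc] at h
    exact IsUnit.of_mul_eq_one _ (by rw [← Matrix.det_mul, ← h, Matrix.det_one])
  let f : GL.O k (Fin n) →ₐ[k] A := GL.pt _ hunit
  have hf : ∀ i j, f (GL.M k (Fin n) i j) = c i j := fun i j =>
    congrFun (congrFun (GL.pt_map (k := k) _ hunit) i) j
  refine ⟨n, BialgHom.ofAlgHom f ?_ ?_, ?_⟩
  · refine GL.hom_ext (R := k) ?_
    rw [GL.counitAlgHom_eq, GL.counit, GL.pt_map]
    ext i j
    show Coalgebra.counit (R := k) (f (GL.M k (Fin n) i j)) = _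
    rw [hf, hc.counit, Matrix.one_apply]
  · refine GL.hom_ext (R := A ⊗[k] A) ?_
    rw [GL.comulAlgHom_eq, GL.comul_map]
    ext i j
    show _ = Coalgebra.comul (R := k) (f (GL.M k (Fin n) i j))
    rw [hf, hc.comul, Matrix.mul_apply]
    exact Finset.sum_congr rfl fun l _ => by simp [GL.iL, GL.iR, hf]
  · show Function.Surjective f
    rw [← AlgHom.range_eq_top, eq_top_iff, ← hgen, Algebra.adjoin_le_iff]
    rintro _ ⟨p, rfl⟩
    exact ⟨GL.M k (Fin n) p.1 p.2, hf p.1 p.2⟩

theorem isOpenImmersion_cell [Algebra.FiniteType k A] (lam : A →ₐc[k] LaurentPolynomial k)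
    {lamNeg : A →ₐc[k] LaurentPolynomial k} (hneg : (lamNeg : A →ₐ[k] LaurentPolynomial k) = Dyn.negParam k A lam)
    {Jp Jm : Ideal A}
    (hp : Dyn.Represents k A Jp (fun R _ _ g => Dyn.LimExists k A lam R g))
    (hm : Dyn.Represents k A Jm (fun R _ _ g => Dyn.LimIsOne k A lamNeg R g)) :
    AlgebraicGeometry.IsOpenImmersion (AlgebraicGeometry.Spec.map (CommRingCat.ofHom (mu (k := k) Jm Jp).toRingHom)) := by
  have : Algebra.FinitePresentation k A := Algebra.FinitePresentation.of_finiteType.1 inferInstance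
  obtain ⟨n, π, hπ⟩ := exists_embedding (k := k) (A := A)
  exact isOpenImmersion_mu hp hm hneg fun S _ _ I hI g ub pb hu hp h =>
    closed_lift_cell π hπ lam hneg I hI g ub pb hu hp h

end Groth.Agent.Dyn50
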