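import Groth.Agent.Dyn50.More
import Mathlib.RingTheory.FiniteType

/-! Homogeneous generators; the representing ideals are finitely generated. -/

set_option autoImplicit false
set_option linter.unusedSectionVars false

universe u

open LaurentPolynomial TensorProduct WithConv

namespace Groth.Agent.Dyn50

variable {k : Type u} [CommRing k] {A : Type u} [CommRing A] [HopfAlgebra k A] (lam : A →ₐc[k] k[T;T⁻¹])

theorem comp_of_homogeneous {h : A} {n : ℤ} (hh : univ lam h = AddMonoidAlgebra.single n h) (m : ℤ) :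
    comp lam m h = if m = n then h else 0 := by
  rw [comp_apply, hh, coeff_single]

theorem counit_comp {n : ℤ} (hn : n ≠ 0) (a : A) : Coalgebra.counit (R := k) (comp lam n a) = 0 := by
  have h := orb_coeff lam (1 : WithConv (A →ₐ[k] k)) a n
  rw [map_one] at h
  refine Eq.trans ?_ (h.symm.trans ?_)
  · rfl
  · show ((algebraMap k k[T;T⁻¹]) (Coalgebra.counit (R := k) a)).coeff n = 0
    rw [← C_eq_algebraMap, ← single_eq_C, coeff_single, if_neg hn]

theorem orb_homogeneous {R : Type u} [CommRing R] [Algebra k R] (g : WithConv (A →ₐ[k] R)) {h : A} {n : ℤ}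
    (hh : univ lam h = AddMonoidAlgebra.single n h) :
    (orb lam R g).ofConv h = AddMonoidAlgebra.single n (g.ofConv h) := by
  rw [orb_apply, hh, mapL_single]

theorem exists_homogeneous_gens [Algebra.FiniteType k A] :
    ∃ H : Finset A, Algebra.adjoin k (H : Set A) = ⊤ ∧
      ∀ h ∈ H, ∃ n : ℤ, univ lam h = AddMonoidAlgebra.single n h := by
  classical
  obtain ⟨s, hs⟩ := Algebra.FiniteType.out (R := k) (A := A)
  refine ⟨s.biUnion fun x => (univ lam x).coeff.support.image fun n => comp lam n x, ?_, ?_⟩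
  · rw [eq_top_iff, ← hs, Algebra.adjoin_le_iff]
    intro x hx
    have h1 := DFunLike.congr_fun (congrArg WithConv.ofConv (ev1_orb lam (toConv (AlgHom.id k A)))) x
    show x ∈ Algebra.adjoin k _
    rw [show x = ev1 (k := k) (univ lam x) from h1.symm, ← AddMonoidAlgebra.sum_coeff_single (univ lam x),
      Finsupp.sum, map_sum]
    refine sum_mem fun n hn => ?_
    rw [ev1_single]
    exact Algebra.subset_adjoin (Finset.mem_coe.2 (Finset.mem_biUnion.2 ⟨x, hx, Finset.mem_image.2 ⟨n, hn, rfl⟩⟩))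
  · intro h hh
    obtain ⟨x, -, hx⟩ := Finset.mem_biUnion.1 hh
    obtain ⟨n, -, rfl⟩ := Finset.mem_image.1 hx
    exact ⟨n, univ_comp lam n x⟩

theorem mem_Plim_of_gens {R : Type u} [CommRing R] [Algebra k R] (g : WithConv (A →ₐ[k] R)) {s : Set A}
    (hs : Algebra.adjoin k s = ⊤) (h : ∀ x ∈ s, ∀ n : ℤ, n < 0 → ((orb lam R g).ofConv x).coeff n = 0) :
    g ∈ Plim lam R := by
  rw [mem_Plim_iff]
  intro n hn a
  have hle : Algebra.adjoin k s ≤ (toL (k := k) (R := R)).range.comap (orb lam R g).ofConv :=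
    Algebra.adjoin_le_iff.2 fun x hx => mem_range_toL (h x hx)
  obtain ⟨p, hp⟩ := hle (by rw [hs]; exact Algebra.mem_top (R := k) (x := a))
  rw [← orb_coeff]
  exact (congrArg (fun f : R[T;T⁻¹] => f.coeff n) hp).symm.trans (toL_coeff_neg p hn)

theorem Jp_fg [Algebra.FiniteType k A] : (Jp lam).FG := by
  classical
  obtain ⟨H, hH, hhom⟩ := exists_homogeneous_gens lam
  let H' := H.filter fun h => ∃ n : ℤ, n < 0 ∧ univ lam h = AddMonoidAlgebra.single n h
  refine ⟨H', le_antisymm (Ideal.span_le.2 ?_) ?_⟩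
  · intro h hh
    obtain ⟨-, n, hn, he⟩ := Finset.mem_filter.1 hh
    exact Ideal.subset_span ⟨n, hn, h, by rw [comp_of_homogeneous lam he, if_pos rfl]⟩
  · intro a ha
    refine Ideal.Quotient.eq_zero_iff_mem.1 ((Jp_iff lam (Ideal.Quotient.mkₐ k (Ideal.span (H' : Set A)))).2 ?_ a ha)
    refine mem_Plim_of_gens lam _ hH fun x hx n hn => ?_
    obtain ⟨m, hm⟩ := hhom x hx
    rw [orb_homogeneous lam _ hm, coeff_single]
    split_ifs with h
    · subst h
      exact Ideal.Quotient.eq_zero_iff_mem.2 (Ideal.subset_span (Finset.mem_filter.2 ⟨hx, n, hn, hm⟩))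
    · rfl

theorem Ju_fg [Algebra.FiniteType k A] : (Ju lam).FG := by
  classical
  obtain ⟨H, hH, hhom⟩ := exists_homogeneous_gens lam
  let H' := (H.filter fun h => ∃ n : ℤ, n < 0 ∧ univ lam h = AddMonoidAlgebra.single n h) ∪
    ((H.filter fun h => univ lam h = AddMonoidAlgebra.single 0 h).image
      fun h => h - algebraMap k A (Coalgebra.counit (R := k) h))
  refine ⟨H', le_antisymm (Ideal.span_le.2 ?_) ?_⟩
  · intro h hh
    rcases Finset.mem_union.1 hh with hh | hh
    · obtain ⟨-, n, hn, he⟩ := Finset.mem_filter.1 hh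
      exact Ideal.subset_span (Or.inl ⟨n, hn, h, by rw [comp_of_homogeneous lam he, if_pos rfl]⟩)
    · obtain ⟨x, hx, rfl⟩ := Finset.mem_image.1 hh
      exact Ideal.subset_span (Or.inr ⟨x, by rw [comp_of_homogeneous lam (Finset.mem_filter.1 hx).2, if_pos rfl]⟩)
  · intro a ha
    let g := toConv (Ideal.Quotient.mkₐ k (Ideal.span (H' : Set A)))
    refine Ideal.Quotient.eq_zero_iff_mem.1
      ((Ju_iff lam (Ideal.Quotient.mkₐ k (Ideal.span (H' : Set A)))).2 ?_ a ha)
    have hP : g ∈ Plim lam _ := by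
      refine mem_Plim_of_gens lam _ hH fun x hx n hn => ?_
      obtain ⟨m, hm⟩ := hhom x hx
      rw [orb_homogeneous lam _ hm, coeff_single]
      split_ifs with h
      · subst h
        exact Ideal.Quotient.eq_zero_iff_mem.2
          (Ideal.subset_span (Finset.mem_union_left _ (Finset.mem_filter.2 ⟨hx, n, hn, hm⟩)))
      · rfl
    obtain ⟨h, hh⟩ := hP
    refine ⟨h, WithConv.ofConv_injective (AlgHom.ext_of_adjoin_eq_top hH fun x hx => ?_), hh⟩
    obtain ⟨m, hm⟩ := hhom x hx
    have e := DFunLike.congr_fun (congrArg WithConv.ofConv hh) x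
    rw [push_apply, orb_homogeneous lam _ hm] at e
    show ev0 (k := k) (h.ofConv x) = algebraMap k _ (Coalgebra.counit (R := k) x)
    rw [ev0_apply, ← toL_coeff (k := k), e, coeff_single]
    split_ifs with h0
    · subst h0
      exact Ideal.Quotient.eq.2 (Ideal.subset_span (Finset.mem_union_right _
        (Finset.mem_image.2 ⟨x, Finset.mem_filter.2 ⟨hx, hm⟩, rfl⟩)))
    · rw [← show comp lam m x = x by rw [comp_of_homogeneous lam hm, if_pos rfl],
        counit_comp lam (by simpa [eq_comm] using h0), map_zero]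

end Groth.Agent.Dyn50
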