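import Groth.Agent.Dyn50.Near
import Mathlib.RingTheory.Smooth.Basic

/-! Lifting points with a limit along square-zero extensions. -/

set_option autoImplicit false
set_option linter.unusedSectionVars false

universe u

open LaurentPolynomial TensorProduct WithConv

namespace Groth.Agent.Dyn50

variable {k : Type u} [CommRing k] {A : Type u} [CommRing A] [HopfAlgebra k A] (lam : A →ₐc[k] k[T;T⁻¹])
variable {R : Type u} [CommRing R] [Algebra k R]

theorem eq_one_of_mem {lamNeg : A →ₐc[k] k[T;T⁻¹]} (hneg : (lamNeg : A →ₐ[k] k[T;T⁻¹]) = Dyn.negParam k A lam)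
    (x : WithConv (A →ₐ[k] R)) (hp : x ∈ Plim lam R) (hm : x ∈ Ulim lamNeg R) : x = 1 := by
  rw [mem_Plim_iff] at hp
  rw [mem_Ulim_iff] at hm
  have hc : orb lam R x = push cst x := (orb_eq_cst_iff lam x).2 fun n hn a => by
    rcases lt_or_gt_of_ne hn with h | h
    · exact hp n h a
    · have := hm.1 (-n) (by omega) a
      rwa [comp_neg lam hneg, neg_neg] at this
  refine WithConv.ofConv_injective (AlgHom.ext fun a => ?_)
  have h2 := orb_coeff lam x a 0
  rw [hc, push_apply, cst_apply, ← single_eq_C, coeff_single, if_pos rfl,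
    show comp lam 0 a = comp lamNeg 0 a by rw [comp_neg lam hneg, neg_zero]] at h2
  exact h2.trans (hm.2 a)

theorem mul_injective {lamNeg : A →ₐc[k] k[T;T⁻¹]} (hneg : (lamNeg : A →ₐ[k] k[T;T⁻¹]) = Dyn.negParam k A lam)
    {u u' p p' : WithConv (A →ₐ[k] R)} (hu : u ∈ Ulim lamNeg R) (hu' : u' ∈ Ulim lamNeg R)
    (hp : p ∈ Plim lam R) (hp' : p' ∈ Plim lam R) (h : u * p = u' * p') : u = u' ∧ p = p' := by
  have h1 : u'⁻¹ * u = p' * p⁻¹ := by
    rw [eq_mul_inv_iff_mul_eq, mul_assoc, h, inv_mul_cancel_left]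
  have h2 : u'⁻¹ * u = 1 := eq_one_of_mem lam hneg _ (h1 ▸ mul_mem hp' (inv_mem hp)) (mul_mem (inv_mem hu') hu)
  obtain rfl := inv_mul_eq_one.1 h2
  exact ⟨rfl, mul_left_cancel h⟩

theorem near_mul_mem {S : Type u} [CommRing S] [Algebra k S] {N : Ideal S} {x y : WithConv (A →ₐ[k] S)}
    (hx : Near N x) (hy : Near N y) : Near N (x * y) := by
  rw [near_iff] at *
  rw [map_mul, hx, hy, one_mul]

theorem toConv_push_mem_Plim {g : WithConv (A →ₐ[k] R)} {h : WithConv (A →ₐ[k] R[T;T⁻¹])}
    (hh : orb lam R g = h) (hn : ∀ a, ∀ n < 0, (h.ofConv a).coeff n = 0) : g ∈ Plim lam R :=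
  (mem_Plim_iff lam g).2 fun n hn' a => by rw [← orb_coeff, hh]; exact hn a n hn'

/-- Splitting of a point close to the identity. -/
theorem near_split {lamNeg : A →ₐc[k] k[T;T⁻¹]} (hneg : (lamNeg : A →ₐ[k] k[T;T⁻¹]) = Dyn.negParam k A lam)
    {I : Ideal R} (hI : ∀ a ∈ I, ∀ b ∈ I, a * b = 0) {x : WithConv (A →ₐ[k] R)} (hx : Near I x) :
    ∃ y z, Near I y ∧ Near I z ∧ y ∈ Ulim lamNeg R ∧ z ∈ Plim lam R ∧ y * z = x := by
  let y := negPoint hI (orb lam R x) (near_orb lam hx)
  have hy : Near I y := negPoint_near hI _ _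
  have hval : ∀ (n : ℤ) (a : A), y.ofConv (comp lam n a) =
      algebraMap k R (Coalgebra.counit (R := k) (comp lam n a)) +
        if n < 0 then x.ofConv (comp lam n a) - algebraMap k R (Coalgebra.counit (R := k) (comp lam n a)) else 0 := by
    intro n a
    rw [show y.ofConv (comp lam n a) = _ from negPoint_apply hI _ _ _, orb_homogeneous lam x (univ_comp lam n a),
      IsScalarTower.algebraMap_apply k R R[T;T⁻¹], ← C_eq_algebraMap, ← single_eq_C, map_sub, negSum_single,
      negSum_single, if_neg (lt_irrefl (0 : ℤ)), sub_zero]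
    split_ifs with hn
    · rw [counit_comp lam hn.ne, map_zero, sub_zero]
    · rfl
  refine ⟨y, y⁻¹ * x, hy, ?_, ?_, ?_, mul_inv_cancel_left _ _⟩
  · rw [near_iff] at *
    rw [map_mul, map_inv, hy, hx, inv_one, one_mul]
  · rw [mem_Ulim_iff]
    refine ⟨fun n hn a => ?_, fun a => ?_⟩
    · rw [comp_neg lam hneg, hval, if_neg (by omega), counit_comp lam (by omega), map_zero, add_zero]
    · rw [comp_neg lam hneg, neg_zero, hval, if_neg (lt_irrefl (0 : ℤ)), add_zero]
      have h := DFunLike.congr_fun (congrArg WithConv.ofConv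
        (congrArg (push (ev1 (k := k))) (map_one (orb lam k)))) a
      have h' := orb_coeff lam (1 : WithConv (A →ₐ[k] k)) a 0
      rw [map_one] at h'
      have h'' : ((algebraMap k k[T;T⁻¹]) (Coalgebra.counit (R := k) a)).coeff 0 =
          Coalgebra.counit (R := k) (comp lam 0 a) := h'
      rw [← C_eq_algebraMap, ← single_eq_C, coeff_single, if_pos rfl] at h''
      rw [← h'']
  · rw [mem_Plim_iff]
    intro n hn a
    have hz : Near I (y⁻¹ * x) := by
      rw [near_iff] at *
      rw [map_mul, map_inv, hy, hx, inv_one, one_mul]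
    have h := near_mul hI hy hz (comp lam n a)
    rw [mul_inv_cancel_left, hval, if_pos hn, counit_comp lam hn.ne, map_zero, zero_add, sub_zero, sub_zero,
      left_eq_add] at h
    exact h

theorem cancel_mid {G : Type*} [Group G] (a b c : G) : a * c⁻¹ = a * b⁻¹ * (b * c⁻¹) := by group

/-- Lifting of points with a limit. -/
theorem exists_lift_Plim [Algebra.Smooth k A] {I : Ideal R} (hI : ∀ a ∈ I, ∀ b ∈ I, a * b = 0)
    (gb : WithConv (A →ₐ[k] R ⧸ I)) (hgb : gb ∈ Plim lam (R ⧸ I)) :
    ∃ g ∈ Plim lam R, push (Ideal.Quotient.mkₐ k I) g = gb := by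
  classical
  let q := Ideal.Quotient.mkₐ k I
  obtain ⟨hb, hhb⟩ := hgb
  have hIn : IsNilpotent I := ⟨2, by
    rw [pow_two, Ideal.zero_eq_bot, eq_bot_iff, Ideal.mul_le]
    exact fun a ha b hb => (Ideal.mem_bot).2 (hI a ha b hb)⟩
  let g0 : WithConv (A →ₐ[k] R) := toConv (Algebra.FormallySmooth.lift I hIn gb.ofConv)
  have hg0 : push q g0 = gb :=
    WithConv.ofConv_injective (Algebra.FormallySmooth.comp_lift I hIn gb.ofConv)
  let qP : Polynomial R →ₐ[k] Polynomial (R ⧸ I) := Polynomial.mapAlgHom q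
  have hqP : Function.Surjective qP := Polynomial.map_surjective _ Ideal.Quotient.mk_surjective
  have hkerP : IsNilpotent (RingHom.ker (qP : Polynomial R →+* Polynomial (R ⧸ I))) := ⟨2, by
    rw [pow_two, Ideal.zero_eq_bot, eq_bot_iff, Ideal.mul_le]
    intro a ha b hb
    have hc : ∀ {f : Polynomial R}, f ∈ RingHom.ker (qP : Polynomial R →+* Polynomial (R ⧸ I)) →
        ∀ n, f.coeff n ∈ I := fun {f} hf n => Ideal.Quotient.eq_zero_iff_mem.1 (by
      have := congrArg (fun f : Polynomial (R ⧸ I) => f.coeff n) (RingHom.mem_ker.1 hf)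
      simpa [qP, q] using this)
    refine Ideal.mem_bot.2 (Polynomial.ext fun n => ?_)
    rw [Polynomial.coeff_mul, Polynomial.coeff_zero]
    exact Finset.sum_eq_zero fun m _ => hI _ (hc ha _) _ (hc hb _)⟩
  let h : WithConv (A →ₐ[k] Polynomial R) := toConv (Algebra.FormallySmooth.liftOfSurjective hb.ofConv qP hqP hkerP)
  have hh : push qP h = hb :=
    WithConv.ofConv_injective (Algebra.FormallySmooth.comp_liftOfSurjective hb.ofConv qP hqP hkerP)
  have hsq : ∀ a : WithConv (A →ₐ[k] Polynomial R), push (mapL q) (push toL a) = push toL (push qP a) := by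
    intro a
    refine WithConv.ofConv_injective (AlgHom.ext fun x => LaurentPolynomial.ext fun n => ?_)
    show (mapL q (toL (k := k) (a.ofConv x))).coeff n = (toL (k := k) (qP (a.ofConv x))).coeff n
    rw [coeff_mapL]
    rcases lt_or_ge n 0 with hn | hn
    · rw [toL_coeff_neg _ hn, toL_coeff_neg _ hn, map_zero]
    · obtain ⟨m, rfl⟩ := Int.eq_ofNat_of_zero_le hn
      rw [toL_coeff, toL_coeff]
      simp [qP, q]
  let e := orb lam R g0 * (push toL h)⁻¹
  have hE : push (mapL q) e = 1 := by
    rw [map_mul, map_inv, ← orb_push, hg0, hsq, hh, hhb, mul_inv_cancel]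
  have heN : Near (IL (k := k) I) e := fun a => by
    show mapL q _ = 0
    rw [map_sub, AlgHom.commutes, sub_eq_zero]
    exact DFunLike.congr_fun (congrArg WithConv.ofConv hE) a
  let d := push (sub (k := k)) h * (orb lam (Polynomial R) h)⁻¹
  have key : orb lam R[T;T⁻¹] e = push (dbl (k := k)) e * push (mapL (toL (k := k))) d := by
    have hsub : push (dbl (k := k)) (push toL h) = push (mapL (toL (k := k))) (push (sub (k := k)) h) :=
      WithConv.ofConv_injective (AlgHom.ext fun a => (mapL_toL_sub _).symm)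
    simp only [e, d, map_mul, map_inv, orb_orb, orb_push, ← hsub]
    exact cancel_mid _ _ _
  have hN2 : ∀ f ∈ IL (k := k) (IL (k := k) I), ∀ g ∈ IL (k := k) (IL (k := k) I), f * g = 0 :=
    IL_sq (IL_sq hI)
  have hd : Near (IL (k := k) (IL (k := k) I)) (push (mapL (toL (k := k))) d) := by
    have h1 : Near (IL (k := k) (IL (k := k) I)) (orb lam R[T;T⁻¹] e) := near_orb lam heN
    have h2 : Near (IL (k := k) (IL (k := k) I)) (push (dbl (k := k)) e) := by
      intro a
      rw [mem_IL]
      intro m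
      rw [mem_IL]
      intro n
      rw [push_apply, ← AlgHom.commutes (dbl (k := k)) (Coalgebra.counit (R := k) a), ← map_sub]
      have hh := mem_IL.1 (heN a)
      generalize e.ofConv a - algebraMap k R[T;T⁻¹] (Coalgebra.counit (R := k) a) = f at hh ⊢
      rw [← AddMonoidAlgebra.sum_coeff_single f, Finsupp.sum, map_sum, AddMonoidAlgebra.coeff_sum,
        Finsupp.finsetSum_apply, AddMonoidAlgebra.coeff_sum, Finsupp.finsetSum_apply]
      refine sum_mem fun p _ => ?_
      rw [dbl_single, coeff_single]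
      split_ifs
      · rw [coeff_single]
        split_ifs
        · exact hh p
        · exact zero_mem _
      · simp
    rw [near_iff] at h1 h2 ⊢
    rw [key, map_mul, h2] at h1
    exact (one_mul _).symm.trans h1
  have hcn : ∀ n < 0, ∀ m a, (e.ofConv (comp lam m a)).coeff n = if m = n then (e.ofConv a).coeff n else 0 := by
    intro n hn m a
    have h1 := DFunLike.congr_fun (congrArg WithConv.ofConv key) a
    have h2 : Near (IL (k := k) (IL (k := k) I)) (push (dbl (k := k)) e) := by
      have h1 : Near (IL (k := k) (IL (k := k) I)) (orb lam R[T;T⁻¹] e) := near_orb lam heN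
      rw [near_iff] at h1 hd ⊢
      rw [key, map_mul, hd] at h1
      exact (mul_one _).symm.trans h1
    rw [near_mul hN2 h2 hd] at h1
    have h3 := congrArg (fun f : R[T;T⁻¹][T;T⁻¹] => (f.coeff m).coeff n) h1
    simp only [orb_coeff, AddMonoidAlgebra.coeff_add, AddMonoidAlgebra.coeff_sub, Finsupp.add_apply,
      Finsupp.sub_apply] at h3
    refine h3.trans ?_
    simp only [push_apply]
    rw [coeff_mapL, toL_coeff_neg _ hn, add_zero]
    have h0 : ((algebraMap k R[T;T⁻¹][T;T⁻¹] (Coalgebra.counit (R := k) a)).coeff m).coeff n = 0 := by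
      rw [IsScalarTower.algebraMap_apply k R[T;T⁻¹] R[T;T⁻¹][T;T⁻¹], ← C_eq_algebraMap, ← single_eq_C, coeff_single]
      split_ifs
      · rw [IsScalarTower.algebraMap_apply k R R[T;T⁻¹], ← C_eq_algebraMap, ← single_eq_C, coeff_single,
          if_neg hn.ne]
      · rfl
    rw [h0, sub_zero]
    generalize e.ofConv a = f
    rw [← AddMonoidAlgebra.sum_coeff_single f, Finsupp.sum, map_sum, AddMonoidAlgebra.coeff_sum,
      Finsupp.finsetSum_apply, AddMonoidAlgebra.coeff_sum, Finsupp.finsetSum_apply, ← Finsupp.sum,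
      AddMonoidAlgebra.sum_coeff_single]
    by_cases hmn : m = n
    · subst hmn
      rw [if_pos rfl, Finset.sum_eq_single m]
      · rw [dbl_single, coeff_single, if_pos rfl, coeff_single, if_pos rfl]
      · intro p _ hp
        rw [dbl_single, coeff_single, if_neg hp.symm]
        rfl
      · intro hm
        rw [dbl_single, coeff_single, if_pos rfl, coeff_single, if_pos rfl, Finsupp.notMem_support_iff.1 hm]
    · rw [if_neg hmn]
      refine Finset.sum_eq_zero fun p _ => ?_
      rw [dbl_single, coeff_single]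
      split_ifs with hp
      · rw [coeff_single, if_neg (by omega)]
      · rfl
  let η := (negPoint hI e heN)⁻¹
  have hη : Near I η := by
    have := negPoint_near hI e heN
    rw [near_iff] at this ⊢
    rw [map_inv, this, inv_one]
  refine ⟨η * g0, ?_, by rw [map_mul, (near_iff I η).1 hη, one_mul, hg0]⟩
  refine toConv_push_mem_Plim lam (h := (orb lam R η * e) * push toL h) ?_ ?_
  · rw [map_mul, mul_assoc, inv_mul_cancel_right]
  · have hz : ∀ a, ∀ n < 0, ((orb lam R η * e).ofConv a).coeff n = 0 := by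
      intro a n hn
      rw [near_mul (IL_sq hI) (near_orb lam hη) heN, AddMonoidAlgebra.coeff_sub, AddMonoidAlgebra.coeff_add,
        Finsupp.sub_apply, Finsupp.add_apply, orb_coeff, IsScalarTower.algebraMap_apply k R R[T;T⁻¹],
        ← C_eq_algebraMap, ← single_eq_C, coeff_single, if_neg hn.ne, sub_zero]
      have h1 := near_mul hI hη (negPoint_near hI e heN) (comp lam n a)
      rw [inv_mul_cancel, negPoint_apply, counit_comp lam hn.ne] at h1
      have h2 : ((1 : WithConv (A →ₐ[k] R))).ofConv (comp lam n a) = 0 := by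
        show algebraMap k R (Coalgebra.counit (R := k) (comp lam n a)) = 0
        rw [counit_comp lam hn.ne, map_zero]
      rw [h2, map_zero, map_zero, sub_zero, zero_add, sub_zero,
        negSum_eq_coeff hn (fun p hp hpn => by rw [hcn p hp, if_neg (by simpa [eq_comm] using hpn)]),
        hcn n hn, if_pos rfl] at h1
      exact h1.symm
    intro a n hn
    have hall : ∀ x, (orb lam R η * e).ofConv x ∈ (toL (k := k) (R := R)).range := fun x => mem_range_toL (hz x)
    rw [AlgHom.convMul_apply]
    have hr : Algebra.TensorProduct.lift (orb lam R η * e).ofConv (push toL h).ofConv (fun _ _ => Commute.all _ _)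
        (Coalgebra.comul (R := k) a) ∈ (toL (k := k) (R := R)).range := by
      generalize Coalgebra.comul (R := k) a = t
      induction t using TensorProduct.induction_on with
      | zero => rw [map_zero]; exact zero_mem _
      | add p q hp hq => rw [map_add]; exact add_mem hp hq
      | tmul b c =>
        rw [Algebra.TensorProduct.lift_tmul]
        exact mul_mem (hall b) ⟨h.ofConv c, rfl⟩
    obtain ⟨p, hp⟩ := hr
    exact (congrArg (fun f : R[T;T⁻¹] => f.coeff n) hp).symm.trans (toL_coeff_neg p hn)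

/-- Lifting of points tending to the identity. -/
theorem exists_lift_Ulim [Algebra.Smooth k A] {I : Ideal R} (hI : ∀ a ∈ I, ∀ b ∈ I, a * b = 0)
    (ub : WithConv (A →ₐ[k] R ⧸ I)) (hub : ub ∈ Ulim lam (R ⧸ I)) :
    ∃ u ∈ Ulim lam R, push (Ideal.Quotient.mkₐ k I) u = ub := by
  have hP : ub ∈ Plim lam (R ⧸ I) := by
    obtain ⟨h, -, hh⟩ := hub
    exact ⟨h, hh⟩
  obtain ⟨g, hg, hgq⟩ := exists_lift_Plim lam hI ub hP
  obtain ⟨z, v, hz, hv, hzv, -⟩ := decompose lam g hg
  refine ⟨v, hv, ?_⟩
  obtain ⟨zb, vb, -, -, -, huniq⟩ := decompose lam ub hP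
  have h1 := huniq 1 ub (by rw [map_one, map_one]) hub (one_mul _)
  have h2 := huniq (push (Ideal.Quotient.mkₐ k I) z) (push (Ideal.Quotient.mkₐ k I) v)
    (by rw [orb_push, hz, push_cst])
    (by
      rw [mem_Ulim_iff] at hv ⊢
      refine ⟨fun n hn a => ?_, fun a => ?_⟩
      · rw [push_apply, hv.1 n hn a, map_zero]
      · rw [push_apply, hv.2 a, AlgHom.commutes])
    (by rw [← map_mul, hzv, hgq])
  rw [h2.2, ← h1.2]

end Groth.Agent.Dyn50
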