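import Groth.Agent.Dyn50.Basic

/-! Representing ideals, centraliser and decomposition for a one-parameter subgroup. -/

set_option autoImplicit false
set_option linter.unusedSectionVars false

universe u

open LaurentPolynomial TensorProduct WithConv

namespace Groth.Agent.Dyn50

variable {k : Type u} [CommRing k] {A : Type u} [CommRing A] [HopfAlgebra k A] (lam : A →ₐc[k] k[T;T⁻¹])

theorem represents_Jp : Dyn.Represents k A (Jp lam) (fun R _ _ g => Dyn.LimExists k A lam R g) :=
  fun R _ _ g => (Jp_iff lam g).trans (limExists_iff lam g).symm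

theorem represents_Ju : Dyn.Represents k A (Ju lam) (fun R _ _ g => Dyn.LimIsOne k A lam R g) :=
  fun R _ _ g => (Ju_iff lam g).trans (limIsOne_iff lam g).symm

theorem represents_unique {I J : Ideal A}
    {P : ∀ (R : Type u) [CommRing R] [Algebra k R], (A →ₐ[k] R) → Prop}
    (hI : Dyn.Represents k A I P) (hJ : Dyn.Represents k A J P) : I = J := by
  have key : ∀ {I J : Ideal A}, Dyn.Represents k A I P → Dyn.Represents k A J P → I ≤ J :=
    fun {I J} hI hJ a ha => Ideal.Quotient.eq_zero_iff_mem.1 <|
      (hI _ (Ideal.Quotient.mkₐ k J)).2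
        ((hJ _ (Ideal.Quotient.mkₐ k J)).1 fun b hb => Ideal.Quotient.eq_zero_iff_mem.2 hb) a ha
  exact le_antisymm (key hI hJ) (key hJ hI)

theorem orb_eq_cst_iff {R : Type u} [CommRing R] [Algebra k R] (g : WithConv (A →ₐ[k] R)) :
    orb lam R g = push cst g ↔ ∀ n ≠ 0, ∀ a, g.ofConv (comp lam n a) = 0 := by
  constructor
  · intro h n hn a
    rw [← orb_coeff, h, push_apply, cst_apply, ← single_eq_C, coeff_single, if_neg hn]
  · intro h
    refine WithConv.ofConv_injective (AlgHom.ext fun a => ?_)
    have hs : (orb lam R g).ofConv a = AddMonoidAlgebra.single 0 (g.ofConv (comp lam 0 a)) := by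
      refine LaurentPolynomial.ext fun n => ?_
      rw [orb_coeff, coeff_single]
      by_cases hn : n = 0
      · subst hn; rw [if_pos rfl]
      · rw [if_neg hn, h n hn]
    have h1 := DFunLike.congr_fun (congrArg WithConv.ofConv (ev1_orb lam g)) a
    rw [push_apply, hs, ev1_single] at h1
    rw [hs, h1, push_apply, cst_apply, ← single_eq_C]

/-- Inversion of the variable. -/
noncomputable def invL {R : Type u} [CommRing R] [Algebra k R] : R[T;T⁻¹] →ₐ[k] R[T;T⁻¹] :=
  (LaurentPolynomial.invert (R := R)).toAlgHom.restrictScalars k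

theorem invL_single {R : Type u} [CommRing R] [Algebra k R] (n : ℤ) (r : R) :
    invL (k := k) (AddMonoidAlgebra.single n r) = AddMonoidAlgebra.single (-n) r := by
  show LaurentPolynomial.invert (AddMonoidAlgebra.single n r) = _
  rw [single_eq_C_mul_T, map_mul, invert_C, invert_T, single_eq_C_mul_T]

theorem invL_coeff {R : Type u} [CommRing R] [Algebra k R] (f : R[T;T⁻¹]) (n : ℤ) :
    (invL (k := k) f).coeff n = f.coeff (-n) := by
  induction f using AddMonoidAlgebra.induction_linear with
  | zero => simp
  | add a b ha hb => simp only [map_add, AddMonoidAlgebra.coeff_add, Finsupp.add_apply, ha, hb]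
  | single m r =>
    rw [invL_single, coeff_single, coeff_single]
    exact if_congr ⟨fun e => by omega, fun e => by omega⟩ rfl rfl

theorem comp_neg {lamNeg : A →ₐc[k] k[T;T⁻¹]}
    (hneg : (lamNeg : A →ₐ[k] k[T;T⁻¹]) = Dyn.negParam k A lam) (n : ℤ) (a : A) :
    comp lamNeg n a = comp lam (-n) a := by
  have hL : Lam lamNeg A = push (invL (k := k)) (Lam lam A) := by
    refine WithConv.ofConv_injective (AlgHom.ext fun b => ?_)
    have hb := DFunLike.congr_fun hneg b
    show mapL (Algebra.ofId k A) ((lamNeg : A →ₐ[k] k[T;T⁻¹]) b) = invL (k := k) (mapL (Algebra.ofId k A) (lam b))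
    rw [hb]
    show mapL (Algebra.ofId k A) (invL (k := k) (lam b)) = _
    refine LaurentPolynomial.ext fun m => ?_
    rw [coeff_mapL, invL_coeff, invL_coeff, coeff_mapL]
  have hc : push cst (toConv (AlgHom.id k A)) = push (invL (k := k)) (push (cst (k := k)) (toConv (AlgHom.id k A))) := by
    refine WithConv.ofConv_injective (AlgHom.ext fun b => ?_)
    show cst (k := k) b = invL (k := k) (cst (k := k) b)
    rw [cst_apply, ← single_eq_C, invL_single, neg_zero]
  have ho : orb lamNeg A (toConv (AlgHom.id k A)) = push (invL (k := k)) (orb lam A (toConv (AlgHom.id k A))) := by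
    rw [orb_def, orb_def, map_mul, map_mul, map_inv, hL, ← hc]
  rw [comp_apply, univ, ho, push_apply, invL_coeff]
  rfl

/-- Constant polynomials. -/
noncomputable def polyC {R : Type u} [CommRing R] [Algebra k R] : R →ₐ[k] Polynomial R :=
  IsScalarTower.toAlgHom k R (Polynomial R)

theorem push_polyC {R : Type u} [CommRing R] [Algebra k R] (g : WithConv (A →ₐ[k] R)) :
    push toL (push (polyC (k := k)) g) = push cst g := by
  refine WithConv.ofConv_injective (AlgHom.ext fun a => ?_)
  show Polynomial.toLaurent (algebraMap R (Polynomial R) (g.ofConv a)) = cst (k := k) (g.ofConv a)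
  rw [Polynomial.algebraMap_eq, Polynomial.toLaurent_C, cst_apply]

theorem ev0_polyC {R : Type u} [CommRing R] [Algebra k R] (g : WithConv (A →ₐ[k] R)) :
    push (ev0 (k := k)) (push (polyC (k := k)) g) = g := by
  refine WithConv.ofConv_injective (AlgHom.ext fun a => ?_)
  show ev0 (k := k) (algebraMap R (Polynomial R) (g.ofConv a)) = g.ofConv a
  rw [ev0_apply, Polynomial.algebraMap_eq, Polynomial.coeff_C_zero]

theorem push_toL_injective {R : Type u} [CommRing R] [Algebra k R] :
    Function.Injective (push (A := A) (toL (k := k) (R := R))) := fun a b e =>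
  WithConv.ofConv_injective (AlgHom.ext fun x => toL_injective (k := k)
    (DFunLike.congr_fun (congrArg WithConv.ofConv e) x))

/-- The decomposition of a point with a limit. -/
theorem decompose {R : Type u} [CommRing R] [Algebra k R] (g : WithConv (A →ₐ[k] R)) (hg : g ∈ Plim lam R) :
    ∃ z u : WithConv (A →ₐ[k] R), orb lam R z = push cst z ∧ u ∈ Ulim lam R ∧ z * u = g ∧
      ∀ z' u' : WithConv (A →ₐ[k] R), orb lam R z' = push cst z' → u' ∈ Ulim lam R → z' * u' = g →
        z' = z ∧ u' = u := by
  obtain ⟨h, hh⟩ := hg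
  refine ⟨push ev0 h, (push ev0 h)⁻¹ * g, orb_ev0 lam hh,
    ⟨(push polyC (push ev0 h))⁻¹ * h, ?_, ?_⟩, mul_inv_cancel_left _ _, ?_⟩
  · show push ev0 _ = 1
    rw [map_mul, map_inv, ev0_polyC, inv_mul_cancel]
  · rw [map_mul, map_inv, push_polyC, map_mul, map_inv, orb_ev0 lam hh, hh]
  · rintro z' u' hz ⟨hu, hu0, hue⟩ rfl
    have he : h = push polyC z' * hu := by
      refine push_toL_injective ?_
      rw [hh, map_mul, map_mul, push_polyC, hz, hue]
    have hz' : push ev0 h = z' := by rw [he, map_mul, ev0_polyC, show push ev0 hu = 1 from hu0, mul_one]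
    exact ⟨hz'.symm, by rw [hz', inv_mul_cancel_left]⟩

end Groth.Agent.Dyn50
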