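import Groth.Agent.Dyn50.Gens
import Mathlib.Tactic.LinearCombination

/-! Points close to the identity, and their splitting by weights. -/

set_option autoImplicit false
set_option linter.unusedSectionVars false

universe u

open LaurentPolynomial TensorProduct WithConv

namespace Groth.Agent.Dyn50

variable {k : Type u} [CommRing k] {A : Type u} [CommRing A] [HopfAlgebra k A] (lam : A →ₐc[k] k[T;T⁻¹])

section Near

variable {S : Type u} [CommRing S] [Algebra k S] (N : Ideal S)

/-- A point congruent to the identity modulo `N`. -/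
def Near (x : WithConv (A →ₐ[k] S)) : Prop :=
  ∀ a, x.ofConv a - algebraMap k S (Coalgebra.counit (R := k) a) ∈ N

theorem near_iff (x : WithConv (A →ₐ[k] S)) : Near N x ↔ push (Ideal.Quotient.mkₐ k N) x = 1 := by
  constructor
  · exact fun h => WithConv.ofConv_injective (AlgHom.ext fun a => Ideal.Quotient.eq.2 (h a))
  · exact fun h a => Ideal.Quotient.eq.1 (DFunLike.congr_fun (congrArg WithConv.ofConv h) a)

variable {N} (hN : ∀ a ∈ N, ∀ b ∈ N, a * b = 0)
include hN

/-- Multiplication of points close to the identity is addition. -/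
theorem near_mul {x y : WithConv (A →ₐ[k] S)} (hx : Near N x) (hy : Near N y) (a : A) :
    (x * y).ofConv a = x.ofConv a + y.ofConv a - algebraMap k S (Coalgebra.counit (R := k) a) := by
  let e : A →ₗ[k] k := Coalgebra.counit
  let F : A ⊗[k] A →ₗ[k] S := x.ofConv.toLinearMap ∘ₗ (TensorProduct.rid k A).toLinearMap ∘ₗ e.lTensor A +
    y.ofConv.toLinearMap ∘ₗ (TensorProduct.lid k A).toLinearMap ∘ₗ e.rTensor A -
    Algebra.linearMap k S ∘ₗ e ∘ₗ (TensorProduct.rid k A).toLinearMap ∘ₗ e.lTensor A
  have hF : ∀ t, Algebra.TensorProduct.lift x.ofConv y.ofConv (fun _ _ => Commute.all _ _) t = F t := by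
    intro t
    induction t using TensorProduct.induction_on with
    | zero => simp
    | add p q hp hq => simp only [map_add, hp, hq]
    | tmul b c =>
      have h := hN _ (hx b) _ (hy c)
      rw [Algebra.TensorProduct.lift_tmul]
      show x.ofConv b * y.ofConv c =
        x.ofConv (e c • b) + y.ofConv (e b • c) - algebraMap k S (e (e c • b))
      rw [map_smul x.ofConv, map_smul y.ofConv, map_smul e, Algebra.smul_def (e c) (x.ofConv b),
        Algebra.smul_def (e b) (y.ofConv c), smul_eq_mul, map_mul]
      simp only [e]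
      linear_combination h
  rw [AlgHom.convMul_apply, hF]
  show x.ofConv (TensorProduct.rid k A (e.lTensor A (Coalgebra.comul (R := k) a))) +
    y.ofConv (TensorProduct.lid k A (e.rTensor A (Coalgebra.comul (R := k) a))) -
    algebraMap k S (e (TensorProduct.rid k A (e.lTensor A (Coalgebra.comul (R := k) a)))) = _
  rw [show e.lTensor A (Coalgebra.comul (R := k) a) = a ⊗ₜ[k] (1 : k) from Coalgebra.lTensor_counit_comul a,
    show e.rTensor A (Coalgebra.comul (R := k) a) = (1 : k) ⊗ₜ[k] a from Coalgebra.rTensor_counit_comul a,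
    TensorProduct.rid_tmul, TensorProduct.lid_tmul, one_smul]

theorem near_derivation {x : WithConv (A →ₐ[k] S)} (hx : Near N x) (a b : A) :
    x.ofConv (a * b) - algebraMap k S (Coalgebra.counit (R := k) (a * b)) =
      algebraMap k S (Coalgebra.counit (R := k) a) * (x.ofConv b - algebraMap k S (Coalgebra.counit (R := k) b)) +
      algebraMap k S (Coalgebra.counit (R := k) b) * (x.ofConv a - algebraMap k S (Coalgebra.counit (R := k) a)) := by
  have h := hN _ (hx a) _ (hx b)
  rw [map_mul, Bialgebra.counit_mul, map_mul]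
  linear_combination h

end Near

section NegSum

variable {R : Type u} [CommRing R] [Algebra k R]

/-- The sum of the coefficients of negative index. -/
noncomputable def negSum : R[T;T⁻¹] →ₗ[R] R where
  toFun f := f.coeff.sum fun n r => if n < 0 then r else 0
  map_add' f g := by
    rw [AddMonoidAlgebra.coeff_add]
    exact Finsupp.sum_add_index' (fun n => by simp) (fun n a b => by split_ifs <;> simp)
  map_smul' c f := by
    rw [AddMonoidAlgebra.coeff_smul, Finsupp.sum_smul_index' (fun n => by simp), RingHom.id_apply,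
      Finsupp.smul_sum]
    exact Finset.sum_congr rfl fun n _ => by dsimp only; split_ifs <;> simp

theorem negSum_single (n : ℤ) (r : R) :
    negSum (AddMonoidAlgebra.single n r) = if n < 0 then r else 0 := by
  show (AddMonoidAlgebra.single n r : R[T;T⁻¹]).coeff.sum (fun n r => if n < 0 then r else 0) = _
  rw [AddMonoidAlgebra.coeff_single, Finsupp.sum_single_index]
  simp

theorem negSum_eq_coeff {f : R[T;T⁻¹]} {n : ℤ} (hn : n < 0) (h : ∀ m < 0, m ≠ n → f.coeff m = 0) :
    negSum f = f.coeff n := by
  show f.coeff.sum (fun n r => if n < 0 then r else 0) = _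
  rw [Finsupp.sum, Finset.sum_eq_single n]
  · rw [if_pos hn]
  · intro m _ hm
    split_ifs with hm'
    · exact h m hm' hm
    · rfl
  · intro hn'; rw [if_pos hn, Finsupp.notMem_support_iff.1 hn']

theorem negSum_mem {I : Ideal R} {f : R[T;T⁻¹]} (h : ∀ m, f.coeff m ∈ I) : negSum f ∈ I :=
  sum_mem fun m _ => by dsimp only; split_ifs; exacts [h m, zero_mem _]

/-- Laurent polynomials with coefficients in `I`. -/
noncomputable def IL (I : Ideal R) : Ideal R[T;T⁻¹] :=
  RingHom.ker (mapL (k := k) (Ideal.Quotient.mkₐ k I))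

theorem mem_IL {I : Ideal R} {f : R[T;T⁻¹]} : f ∈ IL (k := k) I ↔ ∀ m, f.coeff m ∈ I := by
  rw [IL, RingHom.mem_ker]
  constructor
  · intro h m
    refine Ideal.Quotient.eq_zero_iff_mem.1 ?_
    have := congrArg (fun f : (R ⧸ I)[T;T⁻¹] => f.coeff m) h
    simpa [coeff_mapL] using this
  · intro h
    exact LaurentPolynomial.ext fun m => by
      rw [coeff_mapL]
      exact Ideal.Quotient.eq_zero_iff_mem.2 (h m)

theorem IL_sq {I : Ideal R} (hI : ∀ a ∈ I, ∀ b ∈ I, a * b = 0) :
    ∀ f ∈ IL (k := k) I, ∀ g ∈ IL (k := k) I, f * g = 0 := by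
  intro f hf g hg
  rw [mem_IL] at hf hg
  rw [← AddMonoidAlgebra.sum_coeff_single f, ← AddMonoidAlgebra.sum_coeff_single g, Finsupp.sum, Finsupp.sum,
    Finset.sum_mul_sum]
  exact Finset.sum_eq_zero fun p _ => Finset.sum_eq_zero fun q _ => by
    rw [AddMonoidAlgebra.single_mul_single, hI _ (hf p) _ (hg q), AddMonoidAlgebra.single_zero]

/-- The negative part of a deformation of the identity. -/
noncomputable def negPoint {I : Ideal R} (hI : ∀ a ∈ I, ∀ b ∈ I, a * b = 0)
    (x : WithConv (A →ₐ[k] R[T;T⁻¹])) (hx : Near (IL (k := k) I) x) : WithConv (A →ₐ[k] R) :=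
  toConv <| AlgHom.ofLinearMap
    { toFun := fun a => algebraMap k R (Coalgebra.counit (R := k) a) +
        negSum (x.ofConv a - algebraMap k R[T;T⁻¹] (Coalgebra.counit (R := k) a))
      map_add' := fun a b => by simp only [map_add, map_sub]; abel
      map_smul' := fun r a => by
        rw [map_smul (Coalgebra.counit (R := k) (A := A)), map_smul x.ofConv, smul_eq_mul, map_mul, map_mul,
          RingHom.id_apply, Algebra.smul_def r (x.ofConv a), ← mul_sub,
          IsScalarTower.algebraMap_apply k R R[T;T⁻¹] r, ← Algebra.smul_def (algebraMap k R r), map_smul, smul_eq_mul,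
          Algebra.smul_def]
        ring }
    (by simp [Bialgebra.counit_one])
    (fun a b => by
      have h1 := near_derivation (IL_sq (k := k) hI) hx a b
      simp only [LinearMap.coe_mk, AddHom.coe_mk]
      rw [h1, map_add, IsScalarTower.algebraMap_apply k R R[T;T⁻¹] (Coalgebra.counit (R := k) a),
        IsScalarTower.algebraMap_apply k R R[T;T⁻¹] (Coalgebra.counit (R := k) b),
        ← Algebra.smul_def, ← Algebra.smul_def, map_smul, map_smul, smul_eq_mul, smul_eq_mul,
        ← IsScalarTower.algebraMap_apply k R R[T;T⁻¹], ← IsScalarTower.algebraMap_apply k R R[T;T⁻¹],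
        Bialgebra.counit_mul, map_mul]
      have h2 := hI _ (negSum_mem (mem_IL.1 (hx a))) _ (negSum_mem (mem_IL.1 (hx b)))
      linear_combination -h2)

theorem negPoint_apply {I : Ideal R} (hI : ∀ a ∈ I, ∀ b ∈ I, a * b = 0) (x : WithConv (A →ₐ[k] R[T;T⁻¹]))
    (hx : Near (IL (k := k) I) x) (a : A) :
    (negPoint hI x hx).ofConv a = algebraMap k R (Coalgebra.counit (R := k) a) +
      negSum (x.ofConv a - algebraMap k R[T;T⁻¹] (Coalgebra.counit (R := k) a)) := rfl

theorem negPoint_near {I : Ideal R} (hI : ∀ a ∈ I, ∀ b ∈ I, a * b = 0) (x : WithConv (A →ₐ[k] R[T;T⁻¹]))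
    (hx : Near (IL (k := k) I) x) : Near I (negPoint hI x hx) := fun a => by
  rw [negPoint_apply, add_sub_cancel_left]
  exact negSum_mem (mem_IL.1 (hx a))

theorem near_orb {I : Ideal R} {x : WithConv (A →ₐ[k] R)} (hx : Near I x) :
    Near (IL (k := k) I) (orb lam R x) := by
  intro a
  rw [IL, RingHom.mem_ker, map_sub, AlgHom.commutes]
  have h := DFunLike.congr_fun (congrArg WithConv.ofConv (orb_push lam (Ideal.Quotient.mkₐ k I) x)) a
  rw [(near_iff I x).1 hx, map_one] at h
  exact sub_eq_zero.2 h.symm

end NegSum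

end Groth.Agent.Dyn50
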